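import Cfsg.Agent.Lib.Trans3.Y332.Exist
import Cfsg.Agent.Lib.Trans3.Fi.M22Order
import Cfsg.Agent.Lib.InvChar.SporFi22Simple
import Cfsg.Agent.Lib.InvChar.CosetPres

/-!
Every group of type M(22) is the presented group Fi22, the class corresponding to that of the
first generator.
-/

set_option autoImplicit false
set_option linter.unusedSectionVars false
set_option maxRecDepth 100000

namespace CfsgLib.Trans3.Y332

open CfsgLib.InvChar.Coset
open CfsgLib.Trans3.Fi
open CfsgLib.InvChar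

theorem rels_cases : ∀ r ∈ FiA.rels, r ∈ [wS, wA, wB] ∨
    ∃ x ∈ List.range 9, r = [x, x] ∨ ∃ y ∈ List.range 9,
      (lab x y = 2 ∧ r = [x, y, x, y]) ∨ (lab x y = 3 ∧ r = [x, y, x, y, x, y]) := by
  decide +kernel

variable {G : Type*} [Group G] [Finite G] {D : Set G}
variable (hD : Cfsg.IsThreeTranspositionGroup D) (hP : Cfsg.IsPrimitiveUnderConj D)
variable (h : Cfsg.IsOfTypeM22 G D)
include hD hP h

theorem Cfg.rels_eq_one {s : ℕ → G} (hs : Cfg D s) : ∀ r ∈ FiA.rels, wprod s r = 1 := by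
  intro r hr
  have hC := hs.cox hD
  rcases rels_cases r hr with e | ⟨x, -, rfl | ⟨y, -, ⟨e, rfl⟩ | ⟨e, rfl⟩⟩⟩
  · simp only [List.mem_cons, List.not_mem_nil, or_false] at e
    rcases e with rfl | rfl | rfl
    exacts [hs.wS_eq_one hD hP h, hs.wA_eq_one hD hP h, hs.wB_eq_one hD hP h]
  · rw [wprod_pair, hC.sq]
  · simp only [wprod, List.map_cons, List.map_nil, List.prod_cons, List.prod_nil, mul_one]
    rw [← mul_assoc (s y) (s x), ← hC.comm x y e, mul_assoc, hC.sq, mul_one, hC.sq]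
  · simp only [wprod, List.map_cons, List.map_nil, List.prod_cons, List.prod_nil, mul_one]
    rw [show s x * (s y * (s x * (s y * (s x * s y)))) = s x * s y * s x * (s y * s x * s y) by group,
      ← hC.braid x y e, show s x * s y * s x * (s x * s y * s x) =
        s x * s y * (s x * s x) * s y * s x by group, hC.sq, mul_one, mul_assoc (s x) (s y) (s y),
      hC.sq, mul_one, hC.sq]

/-- A group of type M(22) is Fi22. -/
theorem m22_iso_fi22 : ∃ e : Cfsg.Spor.Fi22 ≃* G, e '' conjugatesOf (SporFi22.gen 0) = D := by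
  obtain ⟨s, hs⟩ := exists_cfg hD hP h
  obtain ⟨φ, hφ⟩ := SporFi22.pres.exists_hom s (hs.cox hD).sq (hs.rels_eq_one hD hP h)
  have h0 : φ (SporFi22.gen 0) = s 0 := hφ 0 (by omega)
  haveI := SporFi22.isSimpleGroup
  have hinj : Function.Injective φ := by
    rw [← MonoidHom.ker_eq_bot_iff]
    refine ((inferInstance : φ.ker.Normal).eq_bot_or_eq_top).resolve_right fun e => ?_
    have h1 : φ (SporFi22.gen 0) = 1 := MonoidHom.mem_ker.1 (e ▸ Subgroup.mem_top _)
    exact invol_ne_one (hD.1.1 _ (hs.mem 0 (by omega))) (h0.symm.trans h1)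
  have hbij : Function.Bijective φ := (Nat.bijective_iff_injective_and_card φ).2
    ⟨hinj, by rw [SporFi22.card_eq.1, m22_card hD hP h]; norm_num⟩
  refine ⟨MulEquiv.ofBijective φ hbij, ?_⟩
  ext y
  constructor
  · rintro ⟨x, hx, rfl⟩
    obtain ⟨g, rfl⟩ := isConj_iff.1 ((hx : IsConj _ x))
    show φ _ ∈ D
    rw [map_mul, map_mul, map_inv, h0]
    exact hD.2.1 _ _ (hs.mem 0 (by omega))
  · intro hy
    obtain ⟨g, hg⟩ := (nice_m22 hD h).conj (s 0) (hs.mem 0 (by omega)) y hy
    obtain ⟨g', rfl⟩ := hbij.2 g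
    refine ⟨g' * SporFi22.gen 0 * g'⁻¹, isConj_iff.2 ⟨g', rfl⟩, ?_⟩
    show φ _ = y
    rw [map_mul, map_mul, map_inv, h0, hg]

end CfsgLib.Trans3.Y332
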