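import Cfsg.Agent.Lib.Trans3.Y332.Dot
import Cfsg.Agent.Lib.Trans3.Fi.PairK
import Cfsg.Agent.Lib.Trans3.Fi.FiveLoc
import Cfsg.Agent.Lib.Trans3.Fi.M24Common

/-!
A group of type M(22): the common partners of a non-commuting pair are the reflections in the vectors
of norm one of the standard six dimensional space over the field with three elements.
-/

set_option autoImplicit false
set_option linter.unusedSectionVars false
set_option maxRecDepth 100000

namespace CfsgLib.Trans3.Y332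

open QuadraticMap (polar)
open Matrix CfsgLib.Geom CfsgLib.Geom.ReflThree
open CfsgLib.Trans3.Fi

set_option linter.style.haveILetI false

local instance : Fact (Nat.Prime 3) := ⟨Nat.prime_three⟩

/-- The sign representatives. -/
def IsRep (x : V6) : Prop := x ⬝ᵥ x = 1 ∧ ∃ i, x i = 1 ∧ ∀ j, j < i → x j = 0

instance : DecidablePred IsRep := fun x => by unfold IsRep; infer_instance

theorem card_reps : (Finset.univ.filter IsRep).card = 126 := by decide +kernel

theorem perm_five_center : ∀ σ : Equiv.Perm (Fin 5),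
    (∀ i j, Equiv.swap i j * σ = σ * Equiv.swap i j) → σ = 1 := by decide +kernel

theorem rep_cases : ∀ x : V6, x ⬝ᵥ x = 1 → (IsRep x ↔ ¬ IsRep (-x)) := by decide +kernel

theorem exists_witness : ∀ x : V6, x ⬝ᵥ x = 1 →
    ∃ z : V6, z ⬝ᵥ z = 1 ∧ x ⬝ᵥ z ≠ 0 ∧ z ≠ x ∧ z ≠ -x := by decide +kernel

set_option maxHeartbeats 2000000 in
/-- The reflections on coordinates in the projective reflection group. -/
theorem refl_coords (Q : QuadraticForm (ZMod 3) (Fin 6 → ZMod 3))
    (hQ : (QuadraticMap.polarBilin Q).Nondegenerate) {c : ZMod 3} (hc : c ≠ 0)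
    (hdisc : Cfsg.polarGramDet (⇑Q) = 1) :
    ∃ R : V6 → ↥(Cfsg.reflectionSubgroup (⇑Q) c) ⧸
        Subgroup.center ↥(Cfsg.reflectionSubgroup (⇑Q) c),
      (∀ x, x ⬝ᵥ x = 1 → R x * R x = 1 ∧ R x ≠ 1) ∧
      (∀ g x, x ⬝ᵥ x = 1 → ∃ y, y ⬝ᵥ y = 1 ∧ g * R x * g⁻¹ = R y) ∧
      (∀ x y, x ⬝ᵥ x = 1 → y ⬝ᵥ y = 1 →
        (Commute (R x) (R y) ↔ x ⬝ᵥ y = 0 ∨ R x = R y)) ∧
      (∀ x y, x ⬝ᵥ x = 1 → y ⬝ᵥ y = 1 → (R x = R y ↔ y = x ∨ y = -x)) := by
  obtain ⟨b, hb, hob, hspan⟩ := ReflSix.exists_basis Q hQ hc hdisc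
  obtain ⟨V, eV⟩ : ∃ V : V6 →ₗ[ZMod 3] (Fin 6 → ZMod 3),
      ∀ x, V x = ∑ i, x i • b i :=
    ⟨Fintype.linearCombination (ZMod 3) b, fun x => by rw [Fintype.linearCombination_apply]⟩
  have hpol : ∀ x y, polar Q (V x) (V y) = 2 * c * (x ⬝ᵥ y) := by
    intro x y
    rw [← QuadraticMap.polarBilin_apply_apply, eV, eV]
    simp only [map_sum, LinearMap.sum_apply, map_smul, LinearMap.smul_apply, smul_eq_mul,
      QuadraticMap.polarBilin_apply_apply, dotProduct, Finset.mul_sum]
    refine Finset.sum_congr rfl fun i _ => ?_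
    rw [Finset.sum_eq_single i (fun j _ hj => by
      first
        | rw [hob j i hj, mul_zero, mul_zero]
        | rw [hob i j (Ne.symm hj), mul_zero, mul_zero]) (by simp), polar_self_two, hb]
    ring
  have hQV : ∀ x, Q (V x) = c * (x ⬝ᵥ x) := fun x => by
    have := hpol x x
    rw [polar_self_two] at this
    exact mul_left_cancel₀ two_ne (this.trans (by ring))
  have hinj : Function.Injective V := (injective_iff_map_eq_zero V).2 fun x hx => funext fun i => by
    have := hpol x (Pi.single i 1)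
    rw [hx, QuadraticMap.polar_zero_left, dotProduct_single, mul_one] at this
    exact (mul_eq_zero.1 this.symm).resolve_left (mul_ne_zero two_ne hc)
  have hsurj : Function.Surjective V := fun v => by
    obtain ⟨g, hg⟩ := Submodule.mem_span_range_iff_exists_fun (ZMod 3) |>.1
      (hspan ▸ (Submodule.mem_top : v ∈ (⊤ : Submodule (ZMod 3) (Fin 6 → ZMod 3))))
    exact ⟨g, (eV g).trans hg⟩
  have hr : ∀ x : V6, ∃ r : ↥(Cfsg.reflectionSubgroup (⇑Q) c),
      x ⬝ᵥ x = 1 → IsRefl Q r.1 (V x) := fun x => by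
    by_cases hx : x ⬝ᵥ x = 1
    · obtain ⟨e, -, he⟩ := exists_mem_class (Q := Q) (V x) (by rw [hQV, hx, mul_one]) hc
      exact ⟨e, fun _ => he⟩
    · exact ⟨1, fun h => absurd h hx⟩
  choose r hr using hr
  have hn : ∀ {x : V6}, x ⬝ᵥ x = 1 → Q (V x) = c := fun {x} hx => by rw [hQV, hx, mul_one]
  have hsq : ∀ {x : V6}, x ⬝ᵥ x = 1 → r x * r x = 1 := fun {x} hx =>
    Subtype.ext ((hr x hx).sq_ne Q (by rw [hn hx]; exact hc)).1
  have hpar : ∀ {x y : V6}, x ⬝ᵥ x = 1 → y ⬝ᵥ y = 1 → r x = r y → y = x ∨ y = -x := by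
    intro x y hx hy e
    obtain ⟨s, hs⟩ := (hr x hx).parallel Q (by rw [e]; exact hr y hy) (by rw [hn hy]; exact hc)
    rw [← map_smul] at hs
    have hs' := hinj hs
    rw [hs', smul_dotProduct, dotProduct_smul, hx, smul_eq_mul, smul_eq_mul, mul_one] at hy
    have key : ∀ s : ZMod 3, s * s = 1 → s = 1 ∨ s = -1 := by decide
    rcases key s hy with rfl | rfl
    · exact Or.inl (by simpa using hs')
    · exact Or.inr (by simpa using hs')
  have hneg : ∀ {x : V6}, x ⬝ᵥ x = 1 → r (-x) = r x := by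
    intro x hx
    have h1 : IsRefl Q (r (-x)).1 (-(V x)) := by
      rw [← map_neg]; exact hr (-x) (by rw [dot_self_neg]; exact hx)
    refine Subtype.ext (og_ext Q fun v => ?_)
    rw [h1.act_eq, (hr x hx).act_eq, QuadraticMap.map_neg, QuadraticMap.polar_neg_left, mul_neg,
      neg_smul_neg]
  have hnc : ∀ {x y : V6}, x ⬝ᵥ x = 1 → y ⬝ᵥ y = 1 → x ⬝ᵥ y ≠ 0 → r x ≠ r y →
      ¬ Commute (r x) (r y) := fun {x y} hx hy hp hne =>
    not_commute_of_polar (hr x hx) (hr y hy) (hn hx) (hn hy) hc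
      (by rw [hpol]; exact mul_ne_zero (mul_ne_zero two_ne hc) hp) hne
  have hact : ∀ {x : V6}, x ⬝ᵥ x = 1 → ∀ z : V6,
      act Q (r x).1 (V z) = V (z + (x ⬝ᵥ z) • x) := by
    intro x hx z
    rw [(hr x hx).act_eq, hn hx, hpol, map_add, map_smul, sub_eq_add_neg, ← neg_smul]
    have key : ∀ c a : ZMod 3, c ≠ 0 → -(c⁻¹ * (2 * c * a)) = a := by decide +kernel
    rw [key c _ hc]
  have hmkinj : ∀ {x y : V6}, x ⬝ᵥ x = 1 → y ⬝ᵥ y = 1 →
      r x * r y ∈ Subgroup.center ↥(Cfsg.reflectionSubgroup (⇑Q) c) → r x = r y := by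
    intro x y hx hy hg
    by_contra hne
    by_cases hp : x ⬝ᵥ y = 0
    · obtain ⟨z, hz, hxz, hzx, hzx'⟩ := exists_witness x hx
      have hc' := Subgroup.mem_center_iff.1 hg (r z)
      have h1 := (hr z hz).conj Q (r x * r y).1
      rw [← Subgroup.coe_inv, ← Subgroup.coe_mul, ← Subgroup.coe_mul,
        show r x * r y * r z * (r x * r y)⁻¹ = r z by
          rw [← hc', mul_inv_cancel_right], Subgroup.coe_mul, act_mul, hact hy, hact hx] at h1
      obtain ⟨s, hs⟩ := (hr z hz).parallel Q h1 (by rw [hQV]; exact mul_ne_zero hc (by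
        intro h0
        have := congrArg Q (show act Q (r x * r y).1 (V z) = V _ by
          rw [Subgroup.coe_mul, act_mul, hact hy, hact hx])
        rw [map_act, hQV, hQV, hz, h0] at this
        simp [hc] at this))
      rw [← map_smul] at hs
      have hs' := hinj hs
      have hxy : x ⬝ᵥ (z + (y ⬝ᵥ z) • y) = x ⬝ᵥ z := by
        rw [dotProduct_add, dotProduct_smul, hp, smul_zero, add_zero]
      rw [hxy] at hs'
      -- the two coefficients
      have d1 := congrArg (fun u => x ⬝ᵥ u) hs'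
      have d2 := congrArg (fun u => z ⬝ᵥ u) hs'
      simp only [dotProduct_add, dotProduct_smul, hx, hz, hp, dotProduct_comm z x,
        dotProduct_comm z y, smul_eq_mul, mul_zero, add_zero, mul_one] at d1 d2
      obtain ⟨α, eα⟩ : ∃ α, x ⬝ᵥ z = α := ⟨_, rfl⟩
      obtain ⟨β, eβ⟩ : ∃ β, y ⬝ᵥ z = β := ⟨_, rfl⟩
      rw [eα] at hxz
      rw [eα] at d1
      rw [eα, eβ] at d2 hs'
      have key : ∀ a b s : ZMod 3, a ≠ 0 → a + a = s * a → 1 + b * b + a * a = s →
          s = 2 ∧ b = 0 ∧ (a = 1 ∨ a = -1) := by decide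
      obtain ⟨rfl, rfl, ha⟩ := key α β s hxz d1 d2
      have h2 : α • x = z := by
        linear_combination (norm := module) hs'
      rcases ha with rfl | rfl
      · exact hzx (by rw [← h2, one_smul])
      · exact hzx' (by rw [← h2, neg_one_smul])
    · refine hnc hx hy hp hne ?_
      have hc' := Subgroup.mem_center_iff.1 hg (r x)
      rw [← mul_assoc, hsq hx, one_mul] at hc'
      show r x * r y = r y * r x
      calc r x * r y = r x * r y * (r x * r x) := by rw [hsq hx, mul_one]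
        _ = r x * r y * r x * r x := by group
        _ = r y * r x := by rw [← hc']
  refine ⟨fun x => (r x : ↥(Cfsg.reflectionSubgroup (⇑Q) c) ⧸ _), fun x hx => ⟨?_, fun e => ?_⟩,
    fun g x hx => ?_, fun x y hx hy => ?_, fun x y hx hy => ?_⟩
  · rw [← QuotientGroup.mk_mul, hsq hx, QuotientGroup.mk_one]
  · obtain ⟨z, hz, hxz, hzx, hzx'⟩ := exists_witness x hx
    refine hnc hx hz hxz (fun e' => ?_) ?_
    · rcases hpar hx hz e' with rfl | rfl
      exacts [hzx rfl, hzx' rfl]
    · exact (Subgroup.mem_center_iff.1 ((QuotientGroup.eq_one_iff _).1 e) (r z)).symm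
  · obtain ⟨w, rfl⟩ := QuotientGroup.mk_surjective g
    obtain ⟨y, hy⟩ := hsurj (act Q w.1 (V x))
    have hy1 : y ⬝ᵥ y = 1 := by
      have h1 := congrArg Q hy
      rw [map_act, hn hx, hQV] at h1
      exact mul_left_cancel₀ hc (h1.trans (mul_one c).symm)
    refine ⟨y, hy1, ?_⟩
    rw [← QuotientGroup.mk_inv, ← QuotientGroup.mk_mul, ← QuotientGroup.mk_mul]
    refine congrArg _ (Subtype.ext ?_)
    refine IsRefl.eq Q ?_ (hr y hy1)
    rw [hy, Subgroup.coe_mul, Subgroup.coe_mul, Subgroup.coe_inv]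
    exact (hr x hx).conj Q w.1
  · constructor
    · intro h
      by_contra hn'
      simp only [not_or] at hn'
      obtain ⟨hp, hne⟩ := hn'
      have hne' : r x ≠ r y := fun e => hne (congrArg _ e)
      have h2 : (r x * r y) ^ 2 ∈ Subgroup.center ↥(Cfsg.reflectionSubgroup (⇑Q) c) := by
        rw [← QuotientGroup.eq_one_iff, QuotientGroup.mk_pow, QuotientGroup.mk_mul, pow_two]
        have h' := h.eq
        calc _ = ((r x : ↥(Cfsg.reflectionSubgroup (⇑Q) c)) : ↥(Cfsg.reflectionSubgroup (⇑Q) c) ⧸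
              Subgroup.center ↥(Cfsg.reflectionSubgroup (⇑Q) c)) * r y * (r y * r x) := by rw [← h']
          _ = ((r x * (r y * r y) * r x : ↥(Cfsg.reflectionSubgroup (⇑Q) c)) :
              ↥(Cfsg.reflectionSubgroup (⇑Q) c) ⧸ _) := by
            simp only [QuotientGroup.mk_mul, mul_assoc]
          _ = 1 := by rw [hsq hy, mul_one, hsq hx, QuotientGroup.mk_one]
      have h3 : (r x * r y) ^ 3 = 1 := by
        have hb := ((comm_or_braid Q (hr x hx) (hr y hy) (by rw [hn hx]; exact hc)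
          (by rw [hn hx, hn hy])).2 (by rw [hpol]; exact mul_ne_zero (mul_ne_zero two_ne hc) hp))
        have hb' : r x * r y * r x = r y * r x * r y := Subtype.ext hb
        calc (r x * r y) ^ 3 = r x * r y * r x * (r y * r x * r y) := by
              simp [pow_succ, mul_assoc]
          _ = r x * r y * (r x * r x) * r y * r x := by rw [← hb']; group
          _ = r x * (r y * r y) * r x := by rw [hsq hx, mul_one]; group
          _ = 1 := by rw [hsq hy, mul_one, hsq hx]
      have h1 : r x * r y ∈ Subgroup.center ↥(Cfsg.reflectionSubgroup (⇑Q) c) := by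
        have h4 := pow_mem h2 2
        rwa [← pow_mul, show 2 * 2 = 3 + 1 from rfl, pow_succ, h3, one_mul] at h4
      exact hne' (hmkinj hx hy h1)
    · rintro (hp | e)
      · exact ((commute_of_orth (hr x hx) (hr y hy) (hn hx) (hn hy) hc
          (by rw [hpol, hp, mul_zero])).map (QuotientGroup.mk'
            (Subgroup.center ↥(Cfsg.reflectionSubgroup (⇑Q) c))))
      · rw [e]
  · constructor
    · intro e
      refine hpar hx hy (hmkinj hx hy ?_)
      have := QuotientGroup.eq.1 e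
      rwa [inv_eq_of_mul_eq_one_right (hsq hx)] at this
    · rintro (rfl | rfl)
      · rfl
      · show (r x : ↥(Cfsg.reflectionSubgroup (⇑Q) c) ⧸ Subgroup.center _) = _; simp only [hneg hx]

variable {G : Type*} [Group G] [Finite G] {D : Set G}

/-- Coordinates on the common partners of a pair. -/
structure PairModel (D : Set G) (a b : G) (V : G → V6) : Prop where
  self : ∀ e ∈ CN D a b, V e ⬝ᵥ V e = 1
  comm : ∀ e ∈ CN D a b, ∀ e' ∈ CN D a b, e ≠ e' → (Commute e e' ↔ V e ⬝ᵥ V e' = 0)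
  inj : ∀ e ∈ CN D a b, ∀ e' ∈ CN D a b, V e' = V e ∨ V e' = -V e → e' = e
  surj : ∀ x : V6, x ⬝ᵥ x = 1 → ∃ e ∈ CN D a b, V e = x ∨ V e = -x

/-- In the symmetric group a non-identity element centralising two overlapping transpositions is
the transposition on the other two points. -/
theorem perm_five_cases {α β σ : Equiv.Perm (Fin 5)} (hα : α.IsSwap) (hβ : β.IsSwap)
    (hαβ : ¬ Commute α β) (hσα : Commute σ α) (hσβ : Commute σ β) :
    σ = 1 ∨ (σ.IsSwap ∧ σ.support = (α.support ∪ β.support)ᶜ) := by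
  have hnd : ¬ Disjoint α.support β.support := fun h => hαβ ((swap_commute_iff hα hβ).2 (Or.inr h))
  have hne : α ≠ β := fun h => hαβ ((swap_commute_iff hα hβ).2 (Or.inl h))
  have hsupp : ∀ {τ : Equiv.Perm (Fin 5)}, τ.IsSwap → Commute σ τ →
      ∀ x ∈ τ.support, σ x ∈ τ.support := fun {τ} _ hc x hx => by
    rw [Equiv.Perm.mem_support] at hx ⊢
    intro e
    have h1 : σ (τ x) = τ (σ x) := Equiv.Perm.ext_iff.1 hc.eq x
    rw [e] at h1
    exact hx (σ.injective h1)
  obtain ⟨i, j, hij, rfl⟩ := hα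
  obtain ⟨k, hk⟩ := Finset.not_disjoint_iff.1 hnd
  have h2 : (β.support).card = 2 := Equiv.Perm.card_support_eq_two.2 hβ
  obtain ⟨l, hl, hlk⟩ : ∃ l ∈ β.support, l ≠ k :=
    Finset.exists_mem_ne (by omega) k
  have hbs : β.support = {k, l} := (Finset.eq_of_subset_of_card_le (by
    intro z hz
    simp only [Finset.mem_insert, Finset.mem_singleton] at hz
    rcases hz with rfl | rfl
    exacts [hk.2, hl]) (by rw [h2, Finset.card_pair (Ne.symm hlk)])).symm
  rw [Equiv.Perm.support_swap hij] at hk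
  obtain ⟨m, hm, hmk⟩ : ∃ m ∈ (Equiv.swap i j).support, m ≠ k :=
    Finset.exists_mem_ne (by rw [Equiv.Perm.support_swap hij, Finset.card_pair hij]; omega) k
  have has : (Equiv.swap i j).support = {k, m} := (Finset.eq_of_subset_of_card_le (by
    intro z hz
    simp only [Finset.mem_insert, Finset.mem_singleton] at hz
    rcases hz with rfl | rfl
    · rw [Equiv.Perm.support_swap hij]; exact hk.1
    · exact hm) (by rw [Equiv.Perm.support_swap hij, Finset.card_pair hij,
        Finset.card_pair (Ne.symm hmk)])).symm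
  have hml : m ≠ l := fun e => hne (swap_eq_of_support ⟨i, j, hij, rfl⟩ hβ (by rw [has, hbs, e]))
  have fa := fun x hx => hsupp ⟨i, j, hij, rfl⟩ hσα x hx
  have fb := fun x hx => hsupp hβ hσβ x hx
  simp only [has, hbs, Finset.mem_insert, Finset.mem_singleton, forall_eq_or_imp, forall_eq]
    at fa fb
  have f1 : σ k = k := by
    rcases fa.1 with e | e
    · exact e
    · rcases fb.1 with e' | e'
      · exact e'
      · exact absurd (e.symm.trans e') hml
  have f2 : σ m = m := fa.2.resolve_left fun e => hmk (σ.injective (e.trans f1.symm))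
  have f3 : σ l = l := fb.2.resolve_left fun e => hlk (σ.injective (e.trans f1.symm))
  have hsub : σ.support ⊆ ((Equiv.swap i j).support ∪ β.support)ᶜ := by
    intro z hz
    rw [Finset.mem_compl, has, hbs]
    simp only [Finset.mem_union, Finset.mem_insert, Finset.mem_singleton]
    rw [Equiv.Perm.mem_support] at hz
    rintro ((rfl | rfl) | (rfl | rfl)) <;> contradiction
  have hc2 : (((Equiv.swap i j).support ∪ β.support)ᶜ).card = 2 := by
    rw [has, hbs, show ({k, m} ∪ {k, l} : Finset (Fin 5)) = {k, m, l} by ext z; simp,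
      Finset.card_compl, Fintype.card_fin, Finset.card_insert_of_notMem (by simp [hmk.symm, hlk.symm]),
      Finset.card_pair hml]
  by_cases h1 : σ = 1
  · exact Or.inl h1
  have h3 : 2 ≤ σ.support.card := Equiv.Perm.two_le_card_support_of_ne_one h1
  have h4 := Finset.eq_of_subset_of_card_le hsub (by omega)
  exact Or.inr ⟨Equiv.Perm.card_support_eq_two.1 (by rw [h4, hc2]), h4⟩

variable (hD : Cfsg.IsThreeTranspositionGroup D) (hP : Cfsg.IsPrimitiveUnderConj D)
variable (h : Cfsg.IsOfTypeM22 G D)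
include hD hP h

/-- An involution centralising an element of order five and a pair of its fixed members is the
fixed member beside the pair. -/
theorem five_pair_unique {x a b e y : G} (hx : orderOf x = 5) (ha : a ∈ Fx D x) (hb : b ∈ Fx D x)
    (he : e ∈ Fx D x) (hab : ¬ Commute a b) (hea : Commute e a) (heb : Commute e b)
    (hyx : Commute y x) (hy2 : y * y = 1) (hy1 : y ≠ 1) (hya : Commute y a) (hyb : Commute y b) :
    y = e := by
  haveI : Fact (Nat.Prime 5) := ⟨by norm_num⟩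
  obtain ⟨φ, hφ, himg, hrange⟩ := (m22_five_conf hD hP h hx ⟨a, ha⟩).closure_eq
  have hcent := (loc_m22_five hD hP h).cent x hx
  have hxφ : ∀ σ, Commute x (φ σ) := fun σ => by
    have : φ σ ∈ Subgroup.closure (Fx D x) := hrange ▸ ⟨σ, rfl⟩
    generalize φ σ = w at this ⊢
    induction this using Subgroup.closure_induction with
    | mem u hu => exact hu.2.symm
    | one => exact Commute.one_right x
    | mul p q _ _ h1 h2 => exact h1.mul_right h2
    | inv p _ h1 => exact h1.inv_right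
  let ψ : ↥(Subgroup.zpowers x) × Equiv.Perm (Fin 5) →* G :=
    MonoidHom.noncommCoprod (Subgroup.zpowers x).subtype φ fun u σ => by
      obtain ⟨k, hk⟩ := Subgroup.mem_zpowers_iff.1 u.2
      show Commute (u : G) (φ σ)
      rw [← hk]; exact (hxφ σ).zpow_left k
  have hψ : Function.Injective ψ := by
    refine (injective_iff_map_eq_one ψ).2 fun p hp => ?_
    obtain ⟨u, σ⟩ := p
    have hp' : (u : G) * φ σ = 1 := hp
    have hσc : σ ∈ Subgroup.center (Equiv.Perm (Fin 5)) := by
      rw [Subgroup.mem_center_iff]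
      intro τ
      apply hφ
      rw [map_mul, map_mul, eq_inv_of_mul_eq_one_right hp']
      obtain ⟨k, hk⟩ := Subgroup.mem_zpowers_iff.1 u.2
      rw [← hk]
      exact ((hxφ τ).zpow_left k).inv_left.eq.symm
    have hσ1 : σ = 1 := perm_five_center σ fun i j => Subgroup.mem_center_iff.1 hσc _
    subst hσ1
    rw [map_one, mul_one] at hp'
    exact Prod.ext (Subtype.ext hp') rfl
  have hle : ψ.range ≤ Subgroup.centralizer ({x} : Set G) := by
    rintro _ ⟨⟨u, σ⟩, rfl⟩
    rw [Subgroup.mem_centralizer_singleton_iff]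
    obtain ⟨k, hk⟩ := Subgroup.mem_zpowers_iff.1 u.2
    show Commute ((u : G) * φ σ) x
    rw [← hk]
    exact ((Commute.refl x).zpow_left k).mul_left (hxφ σ).symm
  have heq := Subgroup.eq_of_le_of_card_ge hle (by
    rw [Nat.card_congr (MonoidHom.ofInjective hψ).symm.toEquiv, Nat.card_prod, Nat.card_zpowers,
      hx, Nat.card_perm, Nat.card_fin, hcent])
  obtain ⟨⟨u, σ⟩, hp⟩ := heq.ge (Subgroup.mem_centralizer_singleton_iff.2 hyx.eq)
  have hu : u = 1 := by
    have h1 : ψ ((u, σ) * (u, σ)) = 1 := by rw [map_mul, hp, hy2]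
    have h2 := congrArg Prod.fst (hψ (h1.trans ψ.map_one.symm))
    have h5 : u ^ 5 = 1 := Subtype.ext (by
      obtain ⟨k, hk⟩ := Subgroup.mem_zpowers_iff.1 u.2
      rw [Subgroup.coe_pow, ← hk, ← zpow_natCast, ← _root_.zpow_mul, mul_comm, _root_.zpow_mul, zpow_natCast,
        ← hx, pow_orderOf_eq_one, _root_.one_zpow, Subgroup.coe_one])
    have h2' : u * u = 1 := h2
    calc u = u ^ 5 := by simp [pow_succ, h2']
      _ = 1 := h5
  subst hu
  have hyσ : y = φ σ := by rw [← hp]; exact one_mul _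
  have get : ∀ {w : G}, w ∈ Fx D x → ∃ τ : Equiv.Perm (Fin 5), τ.IsSwap ∧ φ τ = w := fun {w} hw => by
    rw [← himg] at hw
    exact hw
  obtain ⟨α, hα, rfl⟩ := get ha
  obtain ⟨β, hβ, rfl⟩ := get hb
  obtain ⟨ε, hε, rfl⟩ := get he
  have hαβ : ¬ Commute α β := fun c => hab (c.map φ)
  subst hyσ
  rcases perm_five_cases hα hβ hαβ (hya.of_map hφ) (hyb.of_map hφ) with rfl | ⟨hσ, hσs⟩
  · exact absurd (map_one φ) hy1
  rcases perm_five_cases hα hβ hαβ (hea.of_map hφ) (heb.of_map hφ) with rfl | ⟨-, hεs⟩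
  · exact absurd (map_one φ) (invol_ne_one (hD.1.1 _ he.1))
  rw [swap_eq_of_support hσ hε (hσs.trans hεs.symm)]

set_option maxHeartbeats 2000000 in
/-- The coordinates. -/
theorem m22_pair_model {a b : G} (ha : a ∈ D) (hb : b ∈ D) (hab : ¬ Commute a b) :
    ∃ V : G → V6, PairModel D a b V := by
  haveI : Fact (Nat.Prime 5) := ⟨by norm_num⟩
  obtain ⟨c, hc, Q, hQ, hdisc, ⟨ψ⟩⟩ := m22_pair_refl hD hP h ha hb hab
  obtain ⟨R, hR1, hRconj, hRcomm, hRinj⟩ := refl_coords Q hQ hc hdisc
  have hCL := m22_cn_centralizer hD hP h ha hb hab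
  obtain ⟨e₀, he₀, h0a, h0b⟩ := exists_common hD hP h ha hb hab
  -- an element of order five beside the pair
  obtain ⟨-, hcard, -⟩ := pair_point hD hP h ha hb hab he₀ h0a.symm h0b.symm
  obtain ⟨⟨x, hxm⟩, hx⟩ := exists_prime_orderOf_dvd_card' (G := ↥(Subgroup.centralizer ({a} : Set G) ⊓
    Subgroup.centralizer ({b} : Set G) ⊓ Subgroup.centralizer ({e₀} : Set G))) 5
    (by rw [hcard]; norm_num)
  rw [← Subgroup.orderOf_coe] at hx
  simp only [Subgroup.mem_inf, Subgroup.mem_centralizer_singleton_iff] at hxm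
  obtain ⟨⟨hxa, hxb⟩, hxe⟩ := hxm
  have hxL : x ∈ Subgroup.closure (CN D a b) := by
    rw [hCL, Subgroup.mem_centralizer_iff]
    rintro w (rfl | rfl)
    exacts [hxa.symm, hxb.symm]
  obtain ⟨f, ef⟩ : ∃ f : V6 → G, ∀ v, f v = ((ψ.symm (R v)) : G) := ⟨_, fun _ => rfl⟩
  obtain ⟨S, eS⟩ : ∃ S : Set G, S = f '' {v | v ⬝ᵥ v = 1} := ⟨_, rfl⟩
  have finj : ∀ {u v : V6}, f u = f v → R u = R v := fun {u v} e => by
    rw [ef, ef] at e
    exact ψ.symm.injective (Subtype.ext e)
  have hScard : S.ncard = 126 := by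
    have himg : S = f '' ↑(Finset.univ.filter IsRep) := by
      rw [eS]
      ext w
      constructor
      · rintro ⟨v, hv, rfl⟩
        by_cases hrep : IsRep v
        · exact ⟨v, by simpa using hrep, rfl⟩
        · refine ⟨-v, by simpa using not_not.1 (fun hn => hrep ((rep_cases v hv).2 hn)), ?_⟩
          rw [ef, ef, (hRinj v (-v) hv (by rw [dot_self_neg]; exact hv)).2 (Or.inr rfl)]
      · rintro ⟨v, hv, rfl⟩
        exact ⟨v, (by simpa using hv : IsRep v).1, rfl⟩
    rw [himg, Set.ncard_image_of_injOn, Set.ncard_coe_finset, card_reps]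
    intro u hu v hv e
    simp only [Finset.coe_filter, Finset.mem_univ, true_and, Set.mem_ofPred_eq] at hu hv
    rcases (hRinj u v hu.1 hv.1).1 (finj e) with rfl | rfl
    · rfl
    · exact absurd hv ((rep_cases u hu.1).1 hu)
  have hSconj : ∀ g ∈ Subgroup.closure (CN D a b), ∀ w ∈ S, g * w * g⁻¹ ∈ S := by
    intro g hg w hw
    rw [eS] at hw ⊢
    obtain ⟨v, hv, rfl⟩ := hw
    obtain ⟨u, hu, e⟩ := hRconj (ψ ⟨g, hg⟩) v hv
    refine ⟨u, hu, ?_⟩
    rw [ef, ← e, map_mul, map_mul, map_inv, MulEquiv.symm_apply_apply, ef]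
    rfl
  -- the fixed one among them is a member
  obtain ⟨y, hyS, hyx⟩ : {w | w ∈ S ∧ Commute w x}.Nonempty := by
    refine Set.nonempty_of_ncard_ne_zero fun e0 => ?_
    have h1 := ncard_fixed_modEq (p := 5) hx (A := S) fun w hw => hSconj x hxL w hw
    rw [e0, hScard] at h1
    norm_num [Nat.ModEq] at h1
  rw [eS] at hyS
  obtain ⟨v₀, hv₀, rfl⟩ := hyS
  have hmemc : ∀ v, Commute (f v) a ∧ Commute (f v) b := fun v => by
    have := (ψ.symm (R v)).2
    rw [← ef v] at this
    rw [hCL, Subgroup.mem_centralizer_iff] at this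
    exact ⟨(this a (by simp)).symm, (this b (by simp)).symm⟩
  have he : f v₀ = e₀ := by
    refine five_pair_unique hD hP h hx ⟨ha, Commute.symm hxa⟩ ⟨hb, Commute.symm hxb⟩
      ⟨he₀, Commute.symm hxe⟩ hab h0a h0b hyx ?_ ?_ (hmemc v₀).1 (hmemc v₀).2
    · rw [ef, ← Subgroup.coe_mul, ← map_mul, (hR1 v₀ hv₀).1, map_one, Subgroup.coe_one]
    · intro e1
      rw [ef] at e1
      have h1 := congrArg ψ (Subtype.ext e1 : ψ.symm (R v₀) = 1)
      rw [MulEquiv.apply_symm_apply, map_one] at h1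
      exact (hR1 v₀ hv₀).2 h1
  have hsub : CN D a b ⊆ S := by
    intro e he'
    obtain ⟨k, -, -, hk, hkL⟩ := trans_common hD hP h ha hb hab he₀ h0a.symm h0b.symm he'.1
      he'.2.1 he'.2.2
    rw [← hk, ← he]
    exact hSconj k hkL _ (eS ▸ ⟨v₀, hv₀, rfl⟩)
  have hCS : CN D a b = S := Set.eq_of_subset_of_ncard_le hsub
    (by rw [hScard, m22_common_card hD hP h ha hb hab]) (Set.toFinite _)
  have hget : ∀ e : G, ∃ v : V6, e ∈ CN D a b → v ⬝ᵥ v = 1 ∧ f v = e := fun e => by
    by_cases hm : e ∈ CN D a b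
    · rw [hCS, eS] at hm
      obtain ⟨v, hv, hve⟩ := hm
      exact ⟨v, fun _ => ⟨hv, hve⟩⟩
    · exact ⟨0, fun h' => absurd h' hm⟩
  choose V hV using hget
  have hfc : ∀ u v, Commute (f u) (f v) ↔ Commute (R u) (R v) := fun u v => by
    rw [ef, ef]
    constructor
    · intro hc
      have : Commute (ψ.symm (R u)) (ψ.symm (R v)) := Subtype.ext hc.eq
      simpa using this.map ψ
    · intro hc
      exact congrArg Subtype.val (hc.map ψ.symm).eq
  refine ⟨V, fun e he => (hV e he).1, fun e he e' he' hne => ?_, fun e he e' he' hp => ?_,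
    fun v hv => ?_⟩
  · obtain ⟨n1, f1⟩ := hV e he
    obtain ⟨n2, f2⟩ := hV e' he'
    conv_lhs => rw [← f1, ← f2, hfc, hRcomm _ _ n1 n2]
    refine or_iff_left fun er => hne ?_
    rw [← f1, ← f2, ef, ef, er]
  · obtain ⟨n1, f1⟩ := hV e he
    obtain ⟨n2, f2⟩ := hV e' he'
    rw [← f1, ← f2, ef, ef, (hRinj _ _ n1 n2).2 hp]
  · have hm : f v ∈ CN D a b := by rw [hCS, eS]; exact ⟨v, hv, rfl⟩
    obtain ⟨n1, f1⟩ := hV _ hm
    exact ⟨_, hm, (hRinj v _ hv n1).1 (finj f1).symm⟩

end CfsgLib.Trans3.Y332
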