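import Cfsg.Agent.Lib.Trans3.Fi.U6Plane
import Cfsg.Agent.Lib.Trans3.Fi.Types

/-!
Two facts on transvections of `PSU₆(2)`: the point of a line chosen by a perpendicular, and the
elements centralising a diagram of type D5.
-/

set_option autoImplicit false
set_option linter.unusedSectionVars false

namespace CfsgLib.Trans3.Y332

open Matrix CfsgLib.MaxSub CfsgLib.Classical CfsgLib.Trans3.TvSU CfsgLib.Trans3.Fi

variable {F : Type*} [Field F] [Fintype F] (hF : Fintype.card F = 2 ^ 2)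
variable {Y : Type*} [Group Y] {D : Set Y} (f : ↥(Cfsg.SU 6 F 2) →* Y)
  (hf : Function.Surjective f) (hk : f.ker = Subgroup.center ↥(Cfsg.SU 6 F 2))
  (hD : Cfsg.IsThreeTranspositionGroup D)
include hF hf hk hD

theorem line_point {e g φ d : Y} (he : e ∈ D) (hg : g ∈ D) (hφ : φ ∈ D) (hd : d ∈ D)
    (ceg : Commute e g) (hne : e ≠ g) (nφe : ¬ Commute φ e) (nφg : ¬ Commute φ g)
    (nde : ¬ Commute d e) (cdg : Commute d g) :
    ∃ u ∈ D, ¬ Commute u d ∧ Commute u φ ∧
      ∀ w ∈ D, Commute w e → Commute w g → Commute w u := by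
  obtain ⟨p, hp, hpp, rfl⟩ := exists_pt hF f hf hk hD he
  obtain ⟨q, hq, hqq, rfl⟩ := exists_pt hF f hf hk hD hg
  obtain ⟨v, hv, hvv, rfl⟩ := exists_pt hF f hf hk hD hφ
  obtain ⟨x, hx, hxx, rfl⟩ := exists_pt hF f hf hk hD hd
  have opq := (pt_commute hF f hk hp hq hpp hqq).1 ceg
  rw [pt_commute hF f hk hv hp hvv hpp] at nφe
  rw [pt_commute hF f hk hv hq hvv hqq] at nφg
  rw [pt_commute hF f hk hx hp hxx hpp] at nde
  rw [pt_commute hF f hk hx hq hxx hqq] at cdg
  obtain ⟨u, eu⟩ : ∃ u, u = hh q v • p + hh p v • q := ⟨_, rfl⟩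
  have huu : hh u u = 0 := by
    simp [eu, hh_add_left hF, hh_add_right hF, hh_smul_left hF, hh_smul_right hF, hpp, hqq, opq,
      hh_symm_zero hF opq]
  have huv : hh u v = 0 := by
    rw [eu, hh_add_left hF, hh_smul_left hF, hh_smul_left hF, mul_comm]
    exact Fi.add_self hF _
  have hux : hh u x ≠ 0 := by
    rw [eu, hh_add_left hF, hh_smul_left hF, hh_smul_left hF, hh_symm_zero hF cdg, mul_zero,
      add_zero]
    exact mul_ne_zero (fun e0 => nφg (hh_symm_zero hF e0)) fun e0 => nde (hh_symm_zero hF e0)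
  have hu : u ≠ 0 := fun e0 => hux (by rw [e0, hh_zero_left hF])
  refine ⟨_, pt_mem hF f hf hk hD hu huu, fun c => hux ((pt_commute hF f hk hu hx huu hxx).1 c),
    (pt_commute hF f hk hu hv huu hvv).2 huv, fun w hw wp wq => ?_⟩
  obtain ⟨z, hz, hzz, rfl⟩ := exists_pt hF f hf hk hD hw
  rw [pt_commute hF f hk hz hp hzz hpp] at wp
  rw [pt_commute hF f hk hz hq hzz hqq] at wq
  refine (pt_commute hF f hk hz hu hzz huu).2 ?_
  rw [eu, hh_add_right hF, hh_smul_right hF, hh_smul_right hF, wp, wq, mul_zero, mul_zero, add_zero]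

/-- What centralises five transvections forming a diagram of type D5 is trivial or the point
perpendicular to all of them. -/
theorem d_five {c d e φ k y : Y} (hc : c ∈ D) (hd : d ∈ D) (he : e ∈ D) (hφ : φ ∈ D) (hh' : k ∈ D)
    (ncd : ¬ Commute c d) (nde : ¬ Commute d e) (neφ : ¬ Commute e φ) (ndk : ¬ Commute d k)
    (cce : Commute c e) (ccφ : Commute c φ) (cck : Commute c k) (cdφ : Commute d φ)
    (cek : Commute e k) (cφk : Commute φ k) (hck : c ≠ k)
    (hy : ∀ t ∈ [c, d, e, φ, k], Commute y t) :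
    y = 1 ∨ (y ∈ D ∧ (∀ t ∈ [c, d, e, φ, k], Commute y t) ∧
      ∀ w ∈ D, Commute w c → Commute w k → Commute w y) := by
  obtain ⟨g, rfl⟩ := hf y
  obtain ⟨vc, hc0, hcc, rfl⟩ := exists_pt hF f hf hk hD hc
  obtain ⟨vd, hd0, hdd, rfl⟩ := exists_pt hF f hf hk hD hd
  obtain ⟨ve, he0, hee, rfl⟩ := exists_pt hF f hf hk hD he
  obtain ⟨vf, hf0, hff, rfl⟩ := exists_pt hF f hf hk hD hφ
  obtain ⟨vk, hk0, hkk, rfl⟩ := exists_pt hF f hf hk hD hh'
  rw [pt_commute hF f hk hc0 hd0 hcc hdd] at ncd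
  rw [pt_commute hF f hk hd0 he0 hdd hee] at nde
  rw [pt_commute hF f hk he0 hf0 hee hff] at neφ
  rw [pt_commute hF f hk hd0 hk0 hdd hkk] at ndk
  rw [pt_commute hF f hk hc0 he0 hcc hee] at cce
  rw [pt_commute hF f hk hc0 hf0 hcc hff] at ccφ
  rw [pt_commute hF f hk hc0 hk0 hcc hkk] at cck
  rw [pt_commute hF f hk hd0 hf0 hdd hff] at cdφ
  rw [pt_commute hF f hk he0 hk0 hee hkk] at cek
  rw [pt_commute hF f hk hf0 hk0 hff hkk] at cφk
  have eig : ∀ v, v ≠ 0 → hh v v = 0 → Commute (f g) (pt hF f v) →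
      ∃ μ : F, μ ≠ 0 ∧ act g v = μ • v := by
    intro v hv hvv hcm
    have h1 := conj_pt hF f g hvv
    rw [hcm.eq, mul_assoc, mul_inv_cancel, mul_one] at h1
    exact pt_eq hF f hk (act_ne_zero hF g hv) (by rw [hh_act]; exact hvv) hvv h1.symm
  obtain ⟨μ, hμ0, hμc⟩ := eig vc hc0 hcc (hy _ (by simp))
  obtain ⟨μd, hμd0, hμd⟩ := eig vd hd0 hdd (hy _ (by simp))
  obtain ⟨μe, hμe0, hμe⟩ := eig ve he0 hee (hy _ (by simp))
  obtain ⟨μf, hμf0, hμf⟩ := eig vf hf0 hff (hy _ (by simp))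
  obtain ⟨μk, hμk0, hμk⟩ := eig vk hk0 hkk (hy _ (by simp))
  have link : ∀ {v w : Fin 6 → F} {a b : F}, a ≠ 0 → b ≠ 0 → act g v = a • v → act g w = b • w →
      hh v w ≠ 0 → a = b := by
    intro v w a b ha hb hv hw hn
    have h1 := hh_act g v w
    rw [hv, hw, hh_smul_left hF, hh_smul_right hF, ← mul_assoc] at h1
    have h2 : a * b ^ 2 = 1 := mul_right_cancel₀ hn (h1.trans (one_mul _).symm)
    calc a = a * b ^ 3 := by rw [cube_one hF hb, mul_one]
      _ = a * b ^ 2 * b := by ring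
      _ = b := by rw [h2, one_mul]
  obtain rfl := link hμ0 hμd0 hμc hμd ncd
  obtain rfl := link hμ0 hμe0 hμd hμe nde
  obtain rfl := link hμ0 hμf0 hμe hμf neφ
  obtain rfl := link hμ0 hμk0 hμd hμk ndk
  obtain ⟨r, er⟩ : ∃ r, r = hh vk vd • vc + hh vc vd • vk := ⟨_, rfl⟩
  have hrc : hh r vc = 0 := by
    rw [er, hh_add_left hF, hh_smul_left hF, hh_smul_left hF, hcc, hh_symm_zero hF cck, mul_zero,
      mul_zero, add_zero]
  have hrk : hh r vk = 0 := by
    rw [er, hh_add_left hF, hh_smul_left hF, hh_smul_left hF, hkk, cck, mul_zero,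
      mul_zero, add_zero]
  have hrd : hh r vd = 0 := by
    rw [er, hh_add_left hF, hh_smul_left hF, hh_smul_left hF, mul_comm]
    exact Fi.add_self hF _
  have hre : hh r ve = 0 := by
    rw [er, hh_add_left hF, hh_smul_left hF, hh_smul_left hF, cce, hh_symm_zero hF cek, mul_zero,
      mul_zero, add_zero]
  have hrf : hh r vf = 0 := by
    rw [er, hh_add_left hF, hh_smul_left hF, hh_smul_left hF, ccφ, hh_symm_zero hF cφk, mul_zero,
      mul_zero, add_zero]
  have hrr : hh r r = 0 := by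
    conv_lhs => arg 2; rw [er]
    rw [hh_add_right hF, hh_smul_right hF, hh_smul_right hF, hrc, hrk, mul_zero, mul_zero, add_zero]
  have hkc : vk ∉ Submodule.span F ({vc} : Set (Fin 6 → F)) :=
    not_mem_span hF f hk hk0 hkk hcc (Ne.symm hck)
  have hdc : hh vd vc ≠ 0 := fun e0 => ncd (hh_symm_zero hF e0)
  have hdk' : hh vd vk ≠ 0 := ndk
  have hr0 : r ≠ 0 := by
    intro e0
    rw [er] at e0
    have h1 := vec_eq_of_add hF _ _ e0
    refine hkc (Submodule.mem_span_singleton.2 ⟨(hh vc vd)⁻¹ * hh vk vd, ?_⟩)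
    rw [← smul_smul, h1, smul_smul, inv_mul_cancel₀ ncd, one_smul]
  -- the five vectors span the perp of `r`
  obtain ⟨S, eS⟩ : ∃ S, S = Submodule.span F (Set.range ![vc, vd, ve, vf, vk]) := ⟨_, rfl⟩
  have hli : LinearIndependent F ![vc, vd, ve, vf, vk] := by
    rw [Fintype.linearIndependent_iff]
    intro a ha
    simp only [Fin.sum_univ_five] at ha
    simp at ha
    have get : ∀ w, a 0 * hh vc w + a 1 * hh vd w + a 2 * hh ve w + a 3 * hh vf w +
        a 4 * hh vk w = 0 := fun w => by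
      have := congrArg (fun u => hh u w) ha
      simpa [hh_add_left hF, hh_smul_left hF, hh_zero_left hF] using this
    have gf := get vf
    have gd := get vd
    have gc := get vc
    have ge := get ve
    simp only [hcc, hdd, hee, hff, cce, ccφ, cck, cdφ, hh_symm_zero hF cce, hh_symm_zero hF ccφ,
      hh_symm_zero hF cck, hh_symm_zero hF cdφ, hh_symm_zero hF cek, hh_symm_zero hF cφk,
      mul_zero, add_zero, zero_add] at gf gd gc ge
    have a2 : a 2 = 0 := (mul_eq_zero.1 gf).resolve_right neφ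
    have a1 : a 1 = 0 := (mul_eq_zero.1 gc).resolve_right hdc
    rw [a1, zero_mul, zero_add] at ge
    have a3 : a 3 = 0 := (mul_eq_zero.1 ge).resolve_right fun e0 => neφ (hh_symm_zero hF e0)
    rw [a1, a2, a3, zero_smul, zero_smul, zero_smul, add_zero, add_zero, add_zero] at ha
    have a4 : a 4 = 0 := by
      by_contra h4
      refine hkc (Submodule.mem_span_singleton.2 ⟨(a 4)⁻¹ * a 0, ?_⟩)
      rw [← smul_smul, vec_eq_of_add hF _ _ ha, smul_smul, inv_mul_cancel₀ h4, one_smul]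
    rw [a4, zero_smul, add_zero, smul_eq_zero] at ha
    intro i
    fin_cases i
    exacts [ha.resolve_right hc0, a1, a2, a3, a4]
  let ℓ : (Fin 6 → F) →ₗ[F] F :=
    { toFun := fun z => hh z r
      map_add' := fun u v => hh_add_left hF u v r
      map_smul' := fun s u => hh_smul_left hF s u r }
  have hS : S = LinearMap.ker ℓ := by
    refine Submodule.eq_of_le_of_finrank_le ?_ ?_
    · rw [eS, Submodule.span_le]
      rintro _ ⟨i, rfl⟩
      fin_cases i <;> simp only [SetLike.mem_coe, LinearMap.mem_ker] <;>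
        exact hh_symm_zero hF (by first | exact hrc | exact hrd | exact hre | exact hrf | exact hrk)
    · rw [eS, finrank_span_eq_card hli, Fintype.card_fin]
      have h1 := LinearMap.finrank_range_add_finrank_ker ℓ
      rw [Module.finrank_fin_fun] at h1
      have h2 : LinearMap.range ℓ ≠ ⊥ := by
        intro e0
        obtain ⟨z, -, hz⟩ := exists_hh hF (S := ⊥) (r := r) (by simpa using hr0)
        have : ℓ z = 0 := by rw [LinearMap.range_eq_bot.1 e0]; rfl
        exact one_ne_zero (hz.symm.trans this)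
      have h3 : 0 < Module.finrank F (LinearMap.range ℓ) :=
        Nat.pos_of_ne_zero fun e0 => h2 (Submodule.finrank_eq_zero.1 e0)
      omega
  have hall : ∀ z, hh z r = 0 → act g z = μ • z := by
    intro z hz
    have hzS : z ∈ S := hS ▸ LinearMap.mem_ker.2 hz
    rw [eS] at hzS
    induction hzS using Submodule.span_induction with
    | mem u hu => obtain ⟨i, rfl⟩ := hu; fin_cases i <;> assumption
    | zero => simp
    | add u v hu hv h1 h2 =>
      have hu' : hh u r = 0 := LinearMap.mem_ker.1 (hS ▸ eS ▸ hu : u ∈ LinearMap.ker ℓ)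
      have hv' : hh v r = 0 := LinearMap.mem_ker.1 (hS ▸ eS ▸ hv : v ∈ LinearMap.ker ℓ)
      rw [act_add hF, h1 hu', h2 hv', smul_add]
    | smul s u hu h1 =>
      have hu' : hh u r = 0 := LinearMap.mem_ker.1 (hS ▸ eS ▸ hu : u ∈ LinearMap.ker ℓ)
      rw [act_smul hF, h1 hu', smul_comm]
  rcases eq_one_or_eq_of_commute hF f hf hk hD (pt_mem hF f hf hk hD hr0 hrr)
      (y := f g) (fun w hw hwr => by
    obtain ⟨z, hz, hzz, rfl⟩ := exists_pt hF f hf hk hD hw
    rw [pt_commute hF f hk hz hr0 hzz hrr] at hwr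
    refine commute_of_conj_eq ?_
    rw [conj_pt hF f g hzz, hall z hwr, pt_smul hF f hzz hμ0]) with e1 | e1
  · exact Or.inl e1
  · right
    refine ⟨e1 ▸ pt_mem hF f hf hk hD hr0 hrr, hy, fun w hw wc wk => ?_⟩
    rw [e1]
    obtain ⟨z, hz, hzz, rfl⟩ := exists_pt hF f hf hk hD hw
    rw [pt_commute hF f hk hz hc0 hzz hcc] at wc
    rw [pt_commute hF f hk hz hk0 hzz hkk] at wk
    refine (pt_commute hF f hk hz hr0 hzz hrr).2 ?_
    rw [er, hh_add_right hF, hh_smul_right hF, hh_smul_right hF, wc, wk, mul_zero, mul_zero,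
      add_zero]

end CfsgLib.Trans3.Y332
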