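import Cfsg.Agent.Lib.Trans3.Y332.Coxeter
import Cfsg.Agent.Lib.Trans3.Y332.PairFrame
import Cfsg.Agent.Lib.Trans3.Y332.U6Steps
import Cfsg.Agent.Lib.Trans3.Fi.Gate
import Cfsg.Agent.Lib.Trans3.Fi.M22ThreeType

/-!
Nine members of a group of type M(22) forming the diagram Y332, and the three extra relations they
satisfy.
-/

set_option autoImplicit false
set_option linter.unusedSectionVars false
set_option maxRecDepth 100000

namespace CfsgLib.Trans3.Y332

open CfsgLib.InvChar.Coset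
open Matrix
open CfsgLib.Trans3.Fi

variable {G : Type*} [Group G]

/-- Nine members forming the diagram. -/
structure Cfg (D : Set G) (s : ℕ → G) : Prop where
  mem : ∀ x < 9, s x ∈ D
  comm : ∀ x < 9, ∀ y < 9, x ≠ y → (Commute (s x) (s y) ↔ lab x y ≠ 3)
  out : ∀ x, 9 ≤ x → s x = 1

/-- The diagram symmetry exchanging the long arms. -/
def swapArms : ℕ → ℕ
  | 0 => 6
  | 6 => 0
  | 1 => 5
  | 5 => 1
  | 2 => 4
  | 4 => 2
  | n => n

theorem wprod_comp (s : ℕ → G) (φ : ℕ → ℕ) (w : List ℕ) :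
    wprod (fun x => s (φ x)) w = wprod s (w.map φ) := by
  simp [wprod, List.map_map, Function.comp_def]

theorem commute_wprod {s : ℕ → G} {z : G} {w : List ℕ} (h : ∀ x ∈ w, Commute (s x) z) :
    Commute (wprod s w) z := by
  refine Commute.list_prod_left _ _ fun y hy => ?_
  obtain ⟨x, hx, rfl⟩ := List.mem_map.1 hy
  exact h x hx

variable {D : Set G} {s : ℕ → G}

theorem Cfg.ne (hs : Cfg D s) {x y : ℕ} (hx : x < 9) (hy : y < 9) (hxy : x ≠ y) :
    s x ≠ s y := by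
  intro e
  obtain ⟨z, hz, hd⟩ := List.any_eq_true.1 ((by decide +kernel : ∀ x < 9, ∀ y < 9, x ≠ y →
    (List.range 9).any (fun z => decide (z ≠ x ∧ z ≠ y) &&
      (decide (lab x z = 3) != decide (lab y z = 3))) = true) x hx y hy hxy)
  rw [List.mem_range] at hz
  have hzxy : z ≠ x ∧ z ≠ y := of_decide_eq_true (Bool.and_eq_true _ _ ▸ hd).1
  obtain ⟨hzx, hzy⟩ := hzxy
  have hiff : lab x z ≠ 3 ↔ lab y z ≠ 3 := by
    rw [← hs.comm x hx z hz (Ne.symm hzx), ← hs.comm y hy z hz (Ne.symm hzy), e]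
  simp only [not_iff_not] at hiff
  rw [decide_eq_decide.2 hiff, bne_self_eq_false, Bool.and_false] at hd
  exact Bool.false_ne_true hd

theorem Cfg.commute (hs : Cfg D s) {x y : ℕ} (hx : x < 9) (hy : y < 9) (h : lab x y ≠ 3) :
    Commute (s x) (s y) := by
  by_cases e : x = y
  · rw [e]
  · exact (hs.comm x hx y hy e).2 h

theorem Cfg.noncomm (hs : Cfg D s) {x y : ℕ} (hx : x < 9) (hy : y < 9) (h : lab x y = 3) :
    ¬ Commute (s x) (s y) := by
  refine fun c => (hs.comm x hx y hy ?_).1 c h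
  rintro rfl
  exact (by decide +kernel : ∀ x < 9, lab x x ≠ 3) x hx h

theorem Cfg.arms (hs : Cfg D s) : Cfg D fun x => s (swapArms x) where
  mem x hx := hs.mem _ ((by decide +kernel : ∀ x < 9, swapArms x < 9) x hx)
  comm x hx y hy hxy := by
    obtain ⟨h1, h2, h3, h4⟩ := (by decide +kernel : ∀ x < 9, ∀ y < 9, x ≠ y → swapArms x < 9 ∧
      swapArms y < 9 ∧ swapArms x ≠ swapArms y ∧
      lab (swapArms x) (swapArms y) = lab x y) x hx y hy hxy
    rw [hs.comm _ h1 _ h2 h3, h4]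
  out x hx := by
    have e : swapArms x = x := by
      match x, hx with
      | (n + 9), _ => rfl
    show s (swapArms x) = 1
    rw [e]
    exact hs.out x hx

theorem Cfg.cox (hD : Cfsg.IsThreeTranspositionGroup D) (hs : Cfg D s) : Cox s where
  sq x := by
    rcases Nat.lt_or_ge x 9 with hx | hx
    · exact Trans3.sq_one hD.1 (hs.mem x hx)
    · rw [hs.out x hx, mul_one]
  comm x y e := by
    have hx : x < 9 ∧ y < 9 := by
      by_contra hn
      rw [lab, if_neg hn] at e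
      exact absurd e (by norm_num)
    exact (hs.commute hx.1 hx.2 (by omega)).eq
  braid x y e := by
    have hx : x < 9 ∧ y < 9 := by
      by_contra hn
      rw [lab, if_neg hn] at e
      exact absurd e (by norm_num)
    exact Trans3.braid hD.1 (hs.mem x hx.1) (hs.mem y hx.2) (hs.noncomm hx.1 hx.2 e)

/-- A path of six common partners. -/
structure GPath (D : Set G) (a b : G) (m : Fin 6 → G) : Prop where
  mem : ∀ i, m i ∈ CN D a b
  ne : ∀ i j, i ≠ j → m i ≠ m j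
  comm : ∀ i j : Fin 6, i.1 < j.1 → (Commute (m i) (m j) ↔ i.1 + 1 ≠ j.1)

theorem GPath.isPath {a b : G} {m : Fin 6 → G} {V : G → V6} (hV : PairModel D a b V)
    (hm : GPath D a b m) : IsPath fun i => V (m i) where
  self i := hV.self _ (hm.mem i)
  adj i j e hz := (hm.comm i j (by omega)).1 ((hV.comm _ (hm.mem i) _ (hm.mem j)
    (hm.ne i j (fun h => by rw [h] at e; omega))).2 hz) e
  far i j e := (hV.comm _ (hm.mem i) _ (hm.mem j) (hm.ne i j (fun h => by rw [h] at e; omega))).1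
    ((hm.comm i j (by omega)).2 (by omega))

/-- A path of six from the letters of the diagram. -/
theorem Cfg.gpath (hs : Cfg D s) {L : Fin 6 → ℕ} (h9 : ∀ i, L i < 9)
    (h0 : ∀ i, lab 0 (L i) ≠ 3) (h1 : ∀ i, lab 1 (L i) ≠ 3)
    (hadj : ∀ i j : Fin 6, i.1 < j.1 → L i ≠ L j ∧ (lab (L i) (L j) ≠ 3 ↔ i.1 + 1 ≠ j.1)) :
    GPath D (s 0) (s 1) fun i => s (L i) where
  mem i := ⟨hs.mem _ (h9 i), hs.commute (by omega) (h9 i) (h0 i), hs.commute (by omega) (h9 i) (h1 i)⟩
  ne i j hij := by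
    refine hs.ne (h9 i) (h9 j) ?_
    rcases Nat.lt_or_gt_of_ne (fun e => hij (Fin.ext e)) with l | l
    · exact (hadj i j l).1
    · exact (hadj j i l).1.symm
  comm i j l := by rw [hs.comm _ (h9 i) _ (h9 j) (hadj i j l).1, (hadj i j l).2]

variable [Finite G]
variable (hD : Cfsg.IsThreeTranspositionGroup D) (hP : Cfsg.IsPrimitiveUnderConj D)
variable (h : Cfsg.IsOfTypeM22 G D)
include hD hP h

theorem not_five {a b : G} {m : Fin 6 → G} (ha : a ∈ D) (hb : b ∈ D) (hab : ¬ Commute a b)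
    (hm : GPath D a b m) {u : G} (hu : u ∈ CN D a b)
    (hc : ∀ i : Fin 6, i.1 < 5 → Commute (m i) u) : False := by
  obtain ⟨V, hV⟩ := m22_pair_model hD hP h ha hb hab
  refine no_five_perp _ (hm.isPath hV) (V u) (hV.self u hu) fun i hi => ?_
  refine (hV.comm _ (hm.mem i) u hu fun e => ?_).1 (hc i hi)
  obtain ⟨j, hj5, hj⟩ : ∃ j : Fin 6, j.1 < 5 ∧ (i.1 + 1 = j.1 ∨ j.1 + 1 = i.1) := by
    rcases Nat.eq_zero_or_pos i.1 with h0 | h0
    · exact ⟨⟨1, by omega⟩, by simp, Or.inl (by simp [h0])⟩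
    · exact ⟨⟨i.1 - 1, by omega⟩, by simp; omega, Or.inr (by simp; omega)⟩
  have hcj := hc j hj5
  rw [← e] at hcj
  rcases hj with hj | hj
  · exact (hm.comm i j (by omega)).1 hcj.symm hj
  · exact (hm.comm j i (by omega)).1 hcj hj

theorem Cfg.wA_eq_one (hs : Cfg D s) : wprod s wA = 1 := by
  have ha := hs.mem 0 (by omega)
  have hb := hs.mem 1 (by omega)
  have hab := hs.noncomm (x := 0) (y := 1) (by omega) (by omega) (by decide)
  have hc : ∀ x ∈ [0, 1, 2, 3, 4, 5, 7], Commute (wprod s wA) (s x) :=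
    fun x hx => wA_comm (hs.cox hD) hx
  have hzH : wprod s wA ∈ Hd D (s 0) := by
    rw [m22_gate hD hP h ha]
    exact Subgroup.mem_centralizer_singleton_iff.2 (hc 0 (by simp)).eq
  have hn : ∀ x < 9, lab 0 x = 2 → s x ∈ nbrs D (s 0) := fun x hx e =>
    ⟨hs.mem x hx, (hs.ne hx (by omega) (by rintro rfl; exact absurd e (by decide))),
      hs.commute (by omega) hx (by omega)⟩
  have n2 := hn 2 (by omega) (by decide)
  have n3 := hn 3 (by omega) (by decide)
  have n4 := hn 4 (by omega) (by decide)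
  have n5 := hn 5 (by omega) (by decide)
  have n6 := hn 6 (by omega) (by decide)
  have n7 := hn 7 (by omega) (by decide)
  have hPre := pre_of_group hD
  have hg := (nice_m22 hD h).group_Db ha
  obtain ⟨F, _, _, f, hF, hf, hk⟩ := exists_model (m22_isU6 hD h ha) hg
  have T : ∀ {x y : ℕ} (hx : x < 9) (hy : y < 9) (nx : s x ∈ nbrs D (s 0))
      (ny : s y ∈ nbrs D (s 0)), lab x y = 3 → ¬ Commute (bar nx) (bar ny) :=
    fun hx hy nx ny e c => hs.noncomm hx hy e ((commute_bar hPre nx ny).1 c)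
  have U : ∀ {x y : ℕ} (hx : x < 9) (hy : y < 9) (nx : s x ∈ nbrs D (s 0))
      (ny : s y ∈ nbrs D (s 0)), lab x y ≠ 3 → Commute (bar nx) (bar ny) :=
    fun hx hy nx ny e => (commute_bar hPre nx ny).2 (hs.commute hx hy e)
  have hy : ∀ t ∈ [bar n2, bar n3, bar n4, bar n5, bar n7],
      Commute ((⟨wprod s wA, hzH⟩ : ↥(Hd D (s 0))) : Qd D (s 0)) t := by
    have key : ∀ {x : ℕ} (nx : s x ∈ nbrs D (s 0)), x ∈ [0, 1, 2, 3, 4, 5, 7] →
        Commute ((⟨wprod s wA, hzH⟩ : ↥(Hd D (s 0))) : Qd D (s 0)) (bar nx) := fun nx hx =>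
      (show Commute (⟨wprod s wA, hzH⟩ : ↥(Hd D (s 0))) ⟨_, Subgroup.subset_closure nx⟩ from
        Subtype.ext (hc _ hx).eq).map (QuotientGroup.mk' (Subgroup.center ↥(Hd D (s 0))))
    intro t ht
    simp only [List.mem_cons, List.not_mem_nil, or_false] at ht
    rcases ht with rfl | rfl | rfl | rfl | rfl <;> exact key _ (by simp)
  have hfive := d_five hF f hf hk hg (bar_mem n2) (bar_mem n3) (bar_mem n4) (bar_mem n5) (bar_mem n7)
    (T (by omega) (by omega) n2 n3 (by decide)) (T (by omega) (by omega) n3 n4 (by decide))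
    (T (by omega) (by omega) n4 n5 (by decide)) (T (by omega) (by omega) n3 n7 (by decide))
    (U (by omega) (by omega) n2 n4 (by decide)) (U (by omega) (by omega) n2 n5 (by decide))
    (U (by omega) (by omega) n2 n7 (by decide)) (U (by omega) (by omega) n3 n5 (by decide))
    (U (by omega) (by omega) n4 n7 (by decide)) (U (by omega) (by omega) n5 n7 (by decide))
    (fun e => hs.ne (by omega) (by omega) (by omega) ((nice_m22 hD h).bar_inj ha n2 n7 e)) hy
  have hpow : ∀ k : ℤ, s 0 ^ k = 1 ∨ s 0 ^ k = s 0 := fun k => by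
    rw [← zpow_mod_orderOf, hD.1.1 _ ha]
    rcases Int.emod_two_eq k with e | e <;> simp [e]
  rcases hfive with e1 | ⟨hu, hu5, hu6⟩
  · have h1 := (QuotientGroup.eq_one_iff _).1 e1
    rw [m22_center_Hd hD hP h ha, Subgroup.mem_subgroupOf, Subgroup.mem_zpowers_iff] at h1
    obtain ⟨k, hk⟩ := h1
    rcases hpow k with e | e
    · exact hk.symm.trans e
    · exact absurd ((hk.symm.trans e) ▸ hc 1 (by simp)) hab
  obtain ⟨u, nu, eu⟩ := exists_bar hu
  rw [eu] at hu5 hu6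
  have hcu : ∀ {x : ℕ} (nx : s x ∈ nbrs D (s 0)),
      Commute (bar nu) (bar nx) → Commute (s x) u :=
    fun nx c => ((commute_bar hPre nu nx).1 c).symm
  have h1 := QuotientGroup.eq.1 eu.symm
  rw [m22_center_Hd hD hP h ha, Subgroup.mem_subgroupOf, Subgroup.mem_zpowers_iff] at h1
  obtain ⟨k, hk⟩ := h1
  simp only [Subgroup.coe_mul, Subgroup.coe_inv] at hk
  have hz : wprod s wA = u * s 0 ^ k := by rw [hk, mul_inv_cancel_left]
  exfalso
  rcases hpow k with e | e
  · rw [e, mul_one] at hz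
    refine not_five hD hP h ha hb hab (hs.gpath (L := ![6, 5, 4, 3, 7, 8]) (by decide +kernel)
      (by decide +kernel) (by decide +kernel) (by decide +kernel))
      (u := u) ⟨nu.1, nu.2.2, hz ▸ (hc 1 (by simp)).symm⟩ ?_
    intro i hi
    have g6 := hcu n6 (hu6 _ (bar_mem n6) (U (by omega) (by omega) n6 n2 (by decide))
      (U (by omega) (by omega) n6 n7 (by decide))).symm
    fin_cases i
    · exact g6
    · exact hcu n5 (hu5 _ (by simp))
    · exact hcu n4 (hu5 _ (by simp))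
    · exact hcu n3 (hu5 _ (by simp))
    · exact hcu n7 (hu5 _ (by simp))
    · simp at hi
  · rw [e] at hz
    have h2 := (hc 1 (by simp)).symm
    rw [hz] at h2
    exact hab ((Trans3.commute_mul_iff hD.1 nu.1 ha hb nu.2.1 nu.2.2.symm).1 h2).2.symm

theorem Cfg.wB_eq_one (hs : Cfg D s) : wprod s wB = 1 := by
  rw [wB_eq (hs.cox hD), show wF = wA.map swapArms by decide +kernel, ← wprod_comp]
  exact hs.arms.wA_eq_one hD hP h

theorem Cfg.rW_mem (hs : Cfg D s) : wprod s rW ∈ D := by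
  obtain ⟨u, eu⟩ : ∃ u, u = [2, 3, 4, 5, 7, 3, 2, 4, 3, 7] := ⟨_, rfl⟩
  rw [show rW = u ++ [8] ++ u.reverse by rw [eu]; rfl, wprod_append, wprod_append, wprod_single,
    wprod_rev (hs.cox hD)]
  exact hD.2.1 _ _ (hs.mem 8 (by omega))

theorem Cfg.rW_noncomm (hs : Cfg D s) : ¬ Commute (wprod s rW) (s 1) := by
  intro hr
  refine not_five hD hP h (hs.mem 0 (by omega)) (hs.mem 1 (by omega))
    (hs.noncomm (by omega) (by omega) (by decide))
    (hs.gpath (L := ![8, 7, 3, 4, 5, 6]) (by decide +kernel) (by decide +kernel) (by decide +kernel)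
      (by decide +kernel))
    (u := wprod s rW) ⟨hs.rW_mem hD hP h, ?_, hr.symm⟩ fun i hi => ?_
  · exact (commute_wprod fun x hx => hs.commute
      ((by decide +kernel : ∀ x ∈ rW, x < 9) x hx) (by omega)
      ((by decide +kernel : ∀ x ∈ rW, lab x 0 ≠ 3) x hx)).symm
  · exact (rW_comm (hs.cox hD)
      ((by decide +kernel : ∀ i : Fin 6, i.1 < 5 → ![8, 7, 3, 4, 5, 6] i ∈ [3, 4, 5, 7, 8]) i hi)).symm

theorem Cfg.tW_one_cube (hs : Cfg D s) : wprod s (tW 1) ^ 3 = 1 := by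
  rw [show tW 1 = rW ++ [1] by rfl, wprod_append, wprod_single]
  exact Trans3.pow_three hD.1 (hs.rW_mem hD hP h) (hs.mem 1 (by omega)) (hs.rW_noncomm hD hP h)

theorem Cfg.wS_eq_one (hs : Cfg D s) : wprod s wS = 1 := by
  haveI : Fact (Nat.Prime 3) := ⟨Nat.prime_three⟩
  by_contra hne
  have h1 := hs.tW_one_cube hD hP h
  have ho : orderOf (wprod s wS) = 3 := orderOf_eq_prime (wS_cube (hs.cox hD) h1) hne
  have hc : ∀ x ∈ [1, 2, 3, 4, 5, 7, 8], Commute (s x) (wprod s wS) :=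
    fun x hx => (wS_comm (hs.cox hD) h1 hx).symm
  have hrS : Commute (wprod s rW) (wprod s wS) :=
    commute_wprod fun x hx => hc x
      ((by decide +kernel : ∀ x ∈ rW, x ∈ [1, 2, 3, 4, 5, 7, 8]) x hx)
  by_cases hp : PairProd D (wprod s wS)
  · obtain ⟨x, hx, y, hy, hxy, e⟩ := hp
    rw [e] at hc hrS
    have hCN : ∀ {t : G}, t ∈ D → Commute t (x * y) → t ∈ CN D x y := fun ht c =>
      ⟨ht, (commute_prod_iff hD hx hy hxy ht).1 c⟩
    obtain ⟨V, hV⟩ := m22_pair_model hD hP h hx hy hxy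
    obtain ⟨r, er⟩ : ∃ r, r = wprod s rW := ⟨_, rfl⟩
    have hr : r ∈ D := er ▸ hs.rW_mem hD hP h
    have hr1 : ¬ Commute r (s 1) := er ▸ hs.rW_noncomm hD hP h
    have hrm : r ∈ CN D x y := hCN hr (er ▸ hrS)
    have hb := hCN (hs.mem 1 (by omega)) (hc 1 (by simp))
    obtain ⟨L, eL⟩ : ∃ L : Fin 4 → ℕ, L = ![5, 4, 3, 7] := ⟨_, rfl⟩
    have hL : ∀ i, L i < 9 ∧ L i ≠ 1 ∧ lab (L i) 1 ≠ 3 ∧ L i ∈ [3, 4, 5, 7, 8] ∧
        L i ∈ [1, 2, 3, 4, 5, 7, 8] := by rw [eL]; decide +kernel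
    have hLm : ∀ i, s (L i) ∈ CN D x y := fun i =>
      hCN (hs.mem _ (hL i).1) (hc _ (hL i).2.2.2.2)
    have hLp : ∀ i j : Fin 4, i.1 < j.1 → L i ≠ L j ∧ (lab (L i) (L j) ≠ 3 ↔ i.1 + 1 ≠ j.1) := by
      rw [eL]; decide +kernel
    have hpath : IsPath fun i => V (s (L i)) := by
      refine ⟨fun i => hV.self _ (hLm i), fun i j e' hz => ?_, fun i j e' => ?_⟩
      · obtain ⟨l1, l2⟩ := hLp i j (by omega)
        exact l2.1 ((hs.comm _ (hL i).1 _ (hL j).1 l1).1 ((hV.comm _ (hLm i) _ (hLm j)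
          (hs.ne (hL i).1 (hL j).1 l1)).2 hz)) e'
      · obtain ⟨l1, l2⟩ := hLp i j (by omega)
        exact (hV.comm _ (hLm i) _ (hLm j) (hs.ne (hL i).1 (hL j).1 l1)).1
          ((hs.comm _ (hL i).1 _ (hL j).1 l1).2 (l2.2 (by omega)))
    have hne' : s 1 ≠ r := fun e' => hr1 (e' ▸ Commute.refl _)
    have hpar := parallel_of_four_perp _ hpath (V (s 1)) (V r) (hV.self _ hb) (hV.self _ hrm)
      (fun i => (hV.comm _ (hLm i) _ hb (hs.ne (hL i).1 (by omega) (hL i).2.1)).1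
        (hs.commute (hL i).1 (by omega) (hL i).2.2.1))
      (fun i => (hV.comm _ (hLm i) _ hrm (fun e' => hr1 (e' ▸
        hs.commute (hL i).1 (by omega) (hL i).2.2.1))).1
          (er ▸ (rW_comm (hs.cox hD) (hL i).2.2.2.1).symm))
      (fun hz => hr1 ((hV.comm _ hb _ hrm hne').2 hz).symm)
    exact hne' (hV.inj _ hb _ hrm hpar).symm
  · obtain ⟨-, -, -, htr⟩ := lx_multi hD hP h ho ⟨hs.mem 1 (by omega), hc 1 (by simp)⟩ hp
    have hm : ∀ x ∈ [3, 4, 5], s x ∈ Lx D (wprod s wS) (s 1) := fun x hx => by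
      obtain ⟨h9, hx1, hl, hx'⟩ := (by decide +kernel : ∀ x ∈ [3, 4, 5], x < 9 ∧ x ≠ 1 ∧
        lab 1 x ≠ 3 ∧ x ∈ [1, 2, 3, 4, 5, 7, 8]) x hx
      exact ⟨⟨hs.mem x h9, hs.ne h9 (by omega) hx1, hs.commute (by omega) h9 hl⟩, hc x hx'⟩
    rcases htr _ (hm 5 (by simp)) _ (hm 4 (by simp)) _ (hm 3 (by simp))
      (hs.noncomm (by omega) (by omega) (by decide))
      (hs.noncomm (by omega) (by omega) (by decide)) with e | e
    · exact hs.ne (by omega) (by omega) (by omega) e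
    · exact e (hs.commute (by omega) (by omega) (by decide))

end CfsgLib.Trans3.Y332
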