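import Cfsg.Agent.Lib.Trans3.Y332.Data

/-!
The Coxeter group of the diagram Y332 (letters 0..8 for a, b, c, d, e, f, g, h, i): the ninth powers of
the two seven-node sub-diagrams of type E7 and the translations behind the spider word.
-/

set_option autoImplicit false
set_option maxRecDepth 100000

namespace CfsgLib.Trans3.Y332

open CfsgLib.InvChar.Coset
open CfsgLib.Trans3.Spider (moves moves_sound)

/-- The edges. -/
def edges : List (ℕ × ℕ) := [(0, 1), (1, 2), (2, 3), (3, 4), (4, 5), (5, 6), (3, 7), (7, 8)]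

/-- The label of two letters. -/
def lab (x y : ℕ) : ℕ :=
  if x < 9 ∧ y < 9 then (if x = y then 1 else if (x, y) ∈ edges ∨ (y, x) ∈ edges then 3 else 2)
  else 0

/-- `n` copies of a word. -/
def copies (n : ℕ) (w : List ℕ) : List ℕ := (List.replicate n w).flatten

/-- `(a b c d e f h)^9`. -/
def wA : List ℕ := copies 9 [0, 1, 2, 3, 4, 5, 7]
/-- `(b c d e f g h)^9`. -/
def wB : List ℕ := copies 9 [1, 2, 3, 4, 5, 6, 7]
/-- `wA` with the two long arms exchanged. -/
def wF : List ℕ := copies 9 [6, 5, 4, 3, 2, 1, 7]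
/-- The spider word. -/
def wS : List ℕ := copies 10 [3, 2, 1, 3, 4, 5, 3, 7, 8]

/-- The translations along the seven roots of b, c, d, e, f, h, i. -/
def tW : ℕ → List ℕ
  | 1 => [2, 3, 4, 5, 7, 3, 2, 4, 3, 7, 8, 7, 3, 4, 2, 3, 7, 5, 4, 3, 2, 1]
  | 2 => [1, 3, 4, 5, 7, 3, 2, 4, 3, 7, 8, 7, 3, 4, 2, 3, 7, 5, 4, 3, 1, 2]
  | 3 => [2, 1, 4, 5, 7, 3, 2, 4, 3, 7, 8, 7, 3, 4, 2, 3, 7, 5, 4, 1, 2, 3]
  | 4 => [3, 2, 1, 5, 7, 3, 2, 4, 3, 7, 8, 7, 3, 4, 2, 3, 7, 5, 1, 2, 3, 4]
  | 5 => [4, 3, 2, 1, 7, 3, 2, 4, 3, 7, 8, 7, 3, 4, 2, 3, 7, 1, 2, 3, 4, 5]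
  | 7 => [3, 2, 1, 4, 3, 2, 5, 4, 3, 7, 8, 7, 3, 4, 5, 2, 3, 4, 1, 2, 3, 7]
  | 8 => [7, 3, 2, 1, 4, 3, 2, 5, 4, 3, 7, 3, 4, 5, 2, 3, 4, 1, 2, 3, 7, 8]
  | _ => []

/-- The reflection in the highest root of the six nodes c, d, e, f, h, i. -/
def rW : List ℕ := [2, 3, 4, 5, 7, 3, 2, 4, 3, 7, 8, 7, 3, 4, 2, 3, 7, 5, 4, 3, 2]

/-- The Coxeter relations. -/
structure Cox {G : Type*} [Group G] (s : ℕ → G) : Prop where
  sq : ∀ x, s x * s x = 1
  comm : ∀ x y, lab x y = 2 → s x * s y = s y * s x
  braid : ∀ x y, lab x y = 3 → s x * s y * s x = s y * s x * s y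

variable {G : Type*} [Group G] {s : ℕ → G}

theorem wprod_copies (n : ℕ) (w : List ℕ) : wprod s (copies n w) = wprod s w ^ n := by
  induction n with
  | zero => simp [copies, wprod]
  | succ n ih =>
    rw [copies, List.replicate_succ, List.flatten_cons, wprod_append, pow_succ']
    exact congrArg _ ih

theorem wprod_single (x : ℕ) : wprod s [x] = s x := by simp [wprod]

theorem wprod_pair (x y : ℕ) : wprod s [x, y] = s x * s y := by simp [wprod]

variable (h : Cox s)
include h

theorem reduces {ms w : List ℕ} (hm : moves lab ms w = some []) : wprod s w = 1 := by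
  rw [moves_sound h.sq h.comm h.braid ms w [] hm]
  simp [wprod]

theorem wprod_rev (w : List ℕ) : wprod s w.reverse = (wprod s w)⁻¹ := wprod_reverse s h.sq w

theorem wA_comm {x : ℕ} (hx : x ∈ [0, 1, 2, 3, 4, 5, 7]) : Commute (wprod s wA) (s x) := by
  have key : wprod s (wA ++ [x] ++ wA.reverse ++ [x]) = 1 := by
    simp only [List.mem_cons, List.not_mem_nil, or_false] at hx
    rcases hx with rfl | rfl | rfl | rfl | rfl | rfl | rfl
    · exact reduces h (ms := Data.mvZ0) (by decide +kernel)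
    · exact reduces h (ms := Data.mvZ1) (by decide +kernel)
    · exact reduces h (ms := Data.mvZ2) (by decide +kernel)
    · exact reduces h (ms := Data.mvZ3) (by decide +kernel)
    · exact reduces h (ms := Data.mvZ4) (by decide +kernel)
    · exact reduces h (ms := Data.mvZ5) (by decide +kernel)
    · exact reduces h (ms := Data.mvZ7) (by decide +kernel)
  simp only [wprod_append, wprod_rev h, wprod_single] at key
  have h2 := eq_inv_of_mul_eq_one_left key
  rw [inv_eq_of_mul_eq_one_right (h.sq x), mul_inv_eq_iff_eq_mul] at h2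
  exact h2

theorem wB_eq : wprod s wB = wprod s wF := by
  have key := reduces h (w := wB ++ wF.reverse) (ms := Data.mvFlip) (by decide +kernel)
  rw [wprod_append, wprod_rev h, mul_inv_eq_one] at key
  exact key

theorem tW_step {x y : ℕ} (hxy : (x, y) ∈ [(1, 2), (2, 3), (3, 4), (4, 5), (3, 7), (7, 8)]) :
    wprod s (tW y) = (s x * s y) * wprod s (tW x) * (s x * s y)⁻¹ := by
  have key : wprod s ((tW y).reverse ++ [x, y] ++ tW x ++ [y, x]) = 1 := by
    simp only [List.mem_cons, Prod.mk.injEq, List.not_mem_nil, or_false] at hxy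
    rcases hxy with ⟨rfl, rfl⟩ | ⟨rfl, rfl⟩ | ⟨rfl, rfl⟩ | ⟨rfl, rfl⟩ | ⟨rfl, rfl⟩ | ⟨rfl, rfl⟩
    · exact reduces h (ms := Data.mvA12) (by decide +kernel)
    · exact reduces h (ms := Data.mvA23) (by decide +kernel)
    · exact reduces h (ms := Data.mvA34) (by decide +kernel)
    · exact reduces h (ms := Data.mvA45) (by decide +kernel)
    · exact reduces h (ms := Data.mvA37) (by decide +kernel)
    · exact reduces h (ms := Data.mvA78) (by decide +kernel)
  simp only [wprod_append, wprod_rev h, wprod_pair] at key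
  rw [show (s x * s y)⁻¹ = s y * s x by
    rw [mul_inv_rev, inv_eq_of_mul_eq_one_right (h.sq x), inv_eq_of_mul_eq_one_right (h.sq y)]]
  simpa [mul_assoc] using (inv_mul_eq_one.1 (by simpa [mul_assoc] using key))

theorem tW_cube (h1 : wprod s (tW 1) ^ 3 = 1) :
    ∀ x ∈ [1, 2, 3, 4, 5, 7, 8], wprod s (tW x) ^ 3 = 1 := by
  have step : ∀ {x y : ℕ}, (x, y) ∈ [(1, 2), (2, 3), (3, 4), (4, 5), (3, 7), (7, 8)] →
      wprod s (tW x) ^ 3 = 1 → wprod s (tW y) ^ 3 = 1 := fun {x y} hxy hx => by
    rw [tW_step h hxy, conj_pow, hx, mul_one, mul_inv_cancel]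
  have e2 := step (x := 1) (y := 2) (by simp) h1
  have e3 := step (x := 2) (y := 3) (by simp) e2
  have e4 := step (x := 3) (y := 4) (by simp) e3
  have e5 := step (x := 4) (y := 5) (by simp) e4
  have e7 := step (x := 3) (y := 7) (by simp) e3
  have e8 := step (x := 7) (y := 8) (by simp) e7
  intro x hx
  simp only [List.mem_cons, List.not_mem_nil, or_false] at hx
  rcases hx with rfl | rfl | rfl | rfl | rfl | rfl | rfl <;> assumption

theorem wS_eq (h1 : wprod s (tW 1) ^ 3 = 1) :
    wprod s wS = (wprod s (tW 4))⁻¹ * wprod s (tW 5) * wprod s (tW 7) * wprod s (tW 8) ^ 2 := by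
  have key := reduces h (w := wS ++ ((copies 3 (tW 2).reverse ++ copies 3 (tW 3).reverse ++
    (tW 4).reverse ++ tW 5 ++ tW 7 ++ copies 2 (tW 8)).reverse)) (ms := Data.mvSp) (by decide +kernel)
  rw [wprod_append, wprod_rev h, mul_inv_eq_one] at key
  rw [key]
  simp only [wprod_append, wprod_copies, wprod_rev h, inv_pow,
    tW_cube h h1 2 (by simp), tW_cube h h1 3 (by simp), inv_one, one_mul]

set_option maxHeartbeats 2000000 in
theorem wS_comm (h1 : wprod s (tW 1) ^ 3 = 1) {x : ℕ} (hx : x ∈ [1, 2, 3, 4, 5, 7, 8]) :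
    Commute (wprod s wS) (s x) := by
  have key : wprod s ([x] ++ wS ++ [x] ++ wS.reverse) = 1 := by
    have hc := tW_cube h h1 x hx
    simp only [List.mem_cons, List.not_mem_nil, or_false] at hx
    rcases hx with rfl | rfl | rfl | rfl | rfl | rfl | rfl
    · have := reduces h (w := [1] ++ wS ++ [1] ++ wS.reverse ++ copies 3 (tW 1))
        (ms := Data.mvS1) (by decide +kernel)
      rwa [wprod_append, wprod_copies, hc, mul_one] at this
    · have := reduces h (w := [2] ++ wS ++ [2] ++ wS.reverse ++ copies 3 (tW 2).reverse)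
        (ms := Data.mvS2) (by decide +kernel)
      rwa [wprod_append, wprod_copies, wprod_rev h (tW 2), inv_pow, hc, inv_one, mul_one] at this
    · have := reduces h (w := [3] ++ wS ++ [3] ++ wS.reverse ++ copies 3 (tW 3).reverse)
        (ms := Data.mvS3) (by decide +kernel)
      rwa [wprod_append, wprod_copies, wprod_rev h (tW 3), inv_pow, hc, inv_one, mul_one] at this
    · exact reduces h (ms := Data.mvS4) (by decide +kernel)
    · have := reduces h (w := [5] ++ wS ++ [5] ++ wS.reverse ++ copies 3 (tW 5))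
        (ms := Data.mvS5) (by decide +kernel)
      rwa [wprod_append, wprod_copies, hc, mul_one] at this
    · have := reduces h (w := [7] ++ wS ++ [7] ++ wS.reverse ++ copies 3 (tW 7))
        (ms := Data.mvS7) (by decide +kernel)
      rwa [wprod_append, wprod_copies, hc, mul_one] at this
    · have := reduces h (w := [8] ++ wS ++ [8] ++ wS.reverse ++ copies 3 (tW 8))
        (ms := Data.mvS8) (by decide +kernel)
      rwa [wprod_append, wprod_copies, hc, mul_one] at this
  simp only [wprod_append, wprod_rev h, wprod_single] at key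
  rw [mul_inv_eq_one] at key
  have h2 : s x * wprod s wS = wprod s wS * (s x)⁻¹ := eq_mul_inv_iff_mul_eq.2 key
  rw [inv_eq_of_mul_eq_one_right (h.sq x)] at h2
  exact h2.symm

theorem tW_comm {x y : ℕ} (hxy : (x, y) ∈ [(4, 5), (4, 7), (4, 8), (5, 7), (5, 8), (7, 8)]) :
    Commute (wprod s (tW x)) (wprod s (tW y)) := by
  have key : wprod s (tW x ++ tW y ++ (tW x).reverse ++ (tW y).reverse) = 1 := by
    simp only [List.mem_cons, Prod.mk.injEq, List.not_mem_nil, or_false] at hxy
    rcases hxy with ⟨rfl, rfl⟩ | ⟨rfl, rfl⟩ | ⟨rfl, rfl⟩ | ⟨rfl, rfl⟩ | ⟨rfl, rfl⟩ | ⟨rfl, rfl⟩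
    · exact reduces h (ms := Data.mvT45) (by decide +kernel)
    · exact reduces h (ms := Data.mvT47) (by decide +kernel)
    · exact reduces h (ms := Data.mvT48) (by decide +kernel)
    · exact reduces h (ms := Data.mvT57) (by decide +kernel)
    · exact reduces h (ms := Data.mvT58) (by decide +kernel)
    · exact reduces h (ms := Data.mvT78) (by decide +kernel)
  simp only [wprod_append, wprod_rev h] at key
  exact mul_inv_eq_iff_eq_mul.1 (mul_inv_eq_one.1 key)

theorem wS_cube (h1 : wprod s (tW 1) ^ 3 = 1) : wprod s wS ^ 3 = 1 := by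
  have c45 := (tW_comm h (x := 4) (y := 5) (by simp)).inv_left
  have c47 := (tW_comm h (x := 4) (y := 7) (by simp)).inv_left
  have c48 := (tW_comm h (x := 4) (y := 8) (by simp)).inv_left
  have c57 := tW_comm h (x := 5) (y := 7) (by simp)
  have c58 := tW_comm h (x := 5) (y := 8) (by simp)
  have c78 := tW_comm h (x := 7) (y := 8) (by simp)
  rw [wS_eq h h1, (((c48.mul_left c58).mul_left c78).pow_right 2).mul_pow,
    (c47.mul_left c57).mul_pow, c45.mul_pow, inv_pow, tW_cube h h1 4 (by simp),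
    tW_cube h h1 5 (by simp), tW_cube h h1 7 (by simp), ← pow_mul, pow_mul',
    tW_cube h h1 8 (by simp), inv_one]
  simp

/-- The reflection in the highest root commutes with d, e, f, h, i. -/
theorem rW_comm {x : ℕ} (hx : x ∈ [3, 4, 5, 7, 8]) : Commute (wprod s rW) (s x) := by
  have key : wprod s ([x] ++ rW ++ [x] ++ rW) = 1 := by
    simp only [List.mem_cons, List.not_mem_nil, or_false] at hx
    rcases hx with rfl | rfl | rfl | rfl | rfl
    · exact reduces h (ms := Data.mvR3) (by decide +kernel)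
    · exact reduces h (ms := Data.mvR4) (by decide +kernel)
    · exact reduces h (ms := Data.mvR5) (by decide +kernel)
    · exact reduces h (ms := Data.mvR7) (by decide +kernel)
    · exact reduces h (ms := Data.mvR8) (by decide +kernel)
  simp only [wprod_append, wprod_single] at key
  have hr : (wprod s rW)⁻¹ = wprod s rW := by
    rw [← wprod_rev h]; rfl
  have h2 := eq_inv_of_mul_eq_one_left key
  rw [hr] at h2
  have h3 : s x * wprod s rW = wprod s rW * (s x)⁻¹ := eq_mul_inv_iff_mul_eq.2 h2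
  rw [inv_eq_of_mul_eq_one_right (h.sq x)] at h3
  exact h3.symm

end CfsgLib.Trans3.Y332
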