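import Mathlib.LinearAlgebra.Dimension.Constructions
import Mathlib.LinearAlgebra.FiniteDimensional.Lemmas
import Mathlib.Data.Matrix.Mul
import Mathlib.Data.ZMod.Basic
import Mathlib.Algebra.Field.ZMod
import Mathlib.Tactic.LinearCombination
import Mathlib.Tactic.FinCases

/-!
Configurations of vectors of norm one in the standard six dimensional space over the field with three
elements: too many of them with a non-singular Gram matrix.
-/

set_option autoImplicit false
set_option maxRecDepth 100000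

namespace CfsgLib.Trans3.Y332

open Matrix

local instance : Fact (Nat.Prime 3) := ⟨Nat.prime_three⟩

/-- The vectors. -/
abbrev V6 : Type := Fin 6 → ZMod 3

theorem dot_self_neg (u : V6) : (-u) ⬝ᵥ (-u) = u ⬝ᵥ u := by simp

/-- The sign making a product one. -/
theorem exists_sign_one {p v : V6} (h : p ⬝ᵥ v ≠ 0) :
    ∃ u : V6, (u = v ∨ u = -v) ∧ p ⬝ᵥ u = 1 := by
  have key : ∀ a : ZMod 3, a ≠ 0 → a = 1 ∨ -a = 1 := by decide
  rcases key _ h with e | e
  · exact ⟨v, Or.inl rfl, e⟩
  · exact ⟨-v, Or.inr rfl, by rw [dotProduct_neg]; exact e⟩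

theorem sign_self {v u : V6} (h : u = v ∨ u = -v) (hv : v ⬝ᵥ v = 1) : u ⬝ᵥ u = 1 := by
  rcases h with rfl | rfl
  · exact hv
  · rw [dot_self_neg]; exact hv

theorem sign_dot {v u w x : V6} (h : u = v ∨ u = -v) (h' : x = w ∨ x = -w) (hz : v ⬝ᵥ w = 0) :
    u ⬝ᵥ x = 0 := by
  rcases h with rfl | rfl <;> rcases h' with rfl | rfl <;> simp [hz]

theorem sign_dot_ne {v u w : V6} (h : u = v ∨ u = -v) (hz : v ⬝ᵥ w ≠ 0) : u ⬝ᵥ w ≠ 0 := by
  rcases h with rfl | rfl
  · exact hz
  · rw [neg_dotProduct, neg_ne_zero]; exact hz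

theorem gram_kernel {k : ℕ} (v : Fin k → V6) (g : Fin k → ZMod 3)
    (h : ∑ i, g i • v i = 0) (j : Fin k) : ∑ i, g i * (v i ⬝ᵥ v j) = 0 := by
  have := congrArg (fun x => x ⬝ᵥ v j) h
  simpa [sum_dotProduct, smul_dotProduct] using this

/-- Seven vectors cannot have a non-singular Gram matrix. -/
theorem no_seven (v : Fin 7 → V6) (M N : Fin 7 → Fin 7 → ZMod 3)
    (hMN : ∀ i k, ∑ j, M i j * N j k = if i = k then 1 else 0)
    (hM : ∀ i j, v i ⬝ᵥ v j = M i j) : False := by
  obtain ⟨g, hg, j, hj⟩ : ∃ g : Fin 7 → ZMod 3, ∑ i, g i • v i = 0 ∧ ∃ i, g i ≠ 0 := by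
    refine Fintype.not_linearIndependent_iff.1 fun h => ?_
    have := h.fintype_card_le_finrank
    simp at this
  refine hj ?_
  have h1 : ∀ j, ∑ i, g i * M i j = 0 := fun j => by
    simpa only [hM] using gram_kernel v g hg j
  calc g j = ∑ i, g i * (if i = j then (1 : ZMod 3) else 0) := by simp
    _ = ∑ i, ∑ l, g i * M i l * N l j := by
        refine Finset.sum_congr rfl fun i _ => ?_
        rw [← hMN, Finset.mul_sum]
        exact Finset.sum_congr rfl fun l _ => by rw [mul_assoc]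
    _ = ∑ l, (∑ i, g i * M i l) * N l j := by
        rw [Finset.sum_comm]
        exact Finset.sum_congr rfl fun l _ => by rw [Finset.sum_mul]
    _ = 0 := by simp [h1]

/-- A path. -/
structure IsPath {k : ℕ} (w : Fin k → V6) : Prop where
  self : ∀ i, w i ⬝ᵥ w i = 1
  adj : ∀ i j : Fin k, i.1 + 1 = j.1 → w i ⬝ᵥ w j ≠ 0
  far : ∀ i j : Fin k, i.1 + 1 < j.1 → w i ⬝ᵥ w j = 0

/-- The signs of a path can be chosen so that neighbours have product one. -/
theorem IsPath.signs : ∀ {k : ℕ} {w : Fin k → V6}, IsPath w →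
    ∃ u : Fin k → V6, (∀ i, u i = w i ∨ u i = -w i) ∧
      ∀ i j : Fin k, i.1 + 1 = j.1 → u i ⬝ᵥ u j = 1 := by
  intro k
  induction k with
  | zero => intro w _; exact ⟨w, fun i => i.elim0, fun i => i.elim0⟩
  | succ k ih =>
    intro w h
    obtain ⟨u, hu, ha⟩ := ih (w := fun i => w i.castSucc) ⟨fun i => h.self _,
      fun i j e => h.adj _ _ e, fun i j e => h.far _ _ e⟩
    rcases Nat.eq_zero_or_pos k with rfl | hk
    · exact ⟨w, fun i => Or.inl rfl, fun i j e => absurd e (by omega)⟩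
    obtain ⟨p, ep⟩ : ∃ p : Fin k, p.1 + 1 = k := ⟨⟨k - 1, by omega⟩, by simp; omega⟩
    obtain ⟨x, hx, hpx⟩ := exists_sign_one (p := u p) (v := w (Fin.last k))
      (sign_dot_ne (hu p) (h.adj p.castSucc _ (by simp; omega)))
    refine ⟨Fin.snoc u x, fun i => ?_, fun i j hij => ?_⟩
    · induction i using Fin.lastCases with
      | last => rw [Fin.snoc_last]; exact hx
      | cast i => rw [Fin.snoc_castSucc]; exact hu i
    · induction i using Fin.lastCases with
      | last => simp at hij; omega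
      | cast i =>
        induction j using Fin.lastCases with
        | last =>
          rw [Fin.snoc_castSucc, Fin.snoc_last, show i = p from Fin.ext (by simp at hij; omega)]
          exact hpx
        | cast j => rw [Fin.snoc_castSucc, Fin.snoc_castSucc]; exact ha i j (by simpa using hij)

/-- The Gram matrix of a signed path. -/
theorem IsPath.gram {k : ℕ} {w u : Fin k → V6} (h : IsPath w) (hu : ∀ i, u i = w i ∨ u i = -w i)
    (ha : ∀ i j : Fin k, i.1 + 1 = j.1 → u i ⬝ᵥ u j = 1) (i j : Fin k) :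
    u i ⬝ᵥ u j = if i = j ∨ i.1 + 1 = j.1 ∨ j.1 + 1 = i.1 then 1 else 0 := by
  split_ifs with e
  · rcases e with rfl | e | e
    · exact sign_self (hu i) (h.self i)
    · exact ha i j e
    · rw [dotProduct_comm]; exact ha j i e
  · simp only [not_or] at e
    obtain ⟨e1, e2, e3⟩ := e
    have : i.1 ≠ j.1 := fun e' => e1 (Fin.ext e')
    rcases Nat.lt_or_ge i.1 j.1 with l | l
    · exact sign_dot (hu i) (hu j) (h.far i j (by omega))
    · rw [dotProduct_comm]; exact sign_dot (hu j) (hu i) (h.far j i (by omega))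

/-- A path on seven points does not fit. -/
theorem no_path_seven (w : Fin 7 → V6) (h : IsPath w) : False := by
  obtain ⟨u, hu, ha⟩ := h.signs
  exact no_seven u (fun i j => if i = j ∨ i.1 + 1 = j.1 ∨ j.1 + 1 = i.1 then 1 else 0)
    ![![1, 0, 2, 1, 0, 2, 1], ![0, 0, 1, 2, 0, 1, 2], ![2, 1, 0, 0, 0, 0, 0],
      ![1, 2, 0, 1, 0, 2, 1], ![0, 0, 0, 0, 0, 1, 2], ![2, 1, 0, 2, 1, 0, 0],
      ![1, 2, 0, 1, 2, 0, 1]]
    (by decide +kernel) (h.gram hu ha)

/-- No vector is orthogonal to the first five points of a path on six. -/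
theorem no_five_perp (w : Fin 6 → V6) (h : IsPath w) (x : V6) (hx : x ⬝ᵥ x = 1)
    (hxw : ∀ i : Fin 6, i.1 < 5 → w i ⬝ᵥ x = 0) : False := by
  by_cases h5 : w 5 ⬝ᵥ x = 0
  · obtain ⟨u, hu, ha⟩ := h.signs
    have hux : ∀ i, u i ⬝ᵥ x = 0 := fun i => sign_dot (hu i) (Or.inl rfl) (by
      rcases Nat.lt_or_ge i.1 5 with l | l
      · exact hxw i l
      · rwa [show i = 5 from Fin.ext (by have := i.2; simp; omega)])
    refine no_seven (Fin.snoc u x) (fun i j => if i = j ∨
        (i.1 < 6 ∧ j.1 < 6 ∧ (i.1 + 1 = j.1 ∨ j.1 + 1 = i.1)) then 1 else 0)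
      ![![0, 1, 2, 0, 1, 2, 0], ![1, 2, 1, 0, 2, 1, 0], ![2, 1, 0, 0, 0, 0, 0],
        ![0, 0, 0, 0, 1, 2, 0], ![1, 2, 0, 1, 2, 1, 0], ![2, 1, 0, 2, 1, 0, 0],
        ![0, 0, 0, 0, 0, 0, 1]] (by decide +kernel) fun i j => ?_
    induction i using Fin.lastCases with
    | last =>
      induction j using Fin.lastCases with
      | last => rw [Fin.snoc_last, hx, if_pos (Or.inl rfl)]
      | cast j =>
        rw [Fin.snoc_last, Fin.snoc_castSucc, dotProduct_comm, hux, if_neg]
        rintro (e | ⟨e, -, -⟩)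
        · exact absurd e.symm (Fin.castSucc_lt_last j).ne
        · simp at e
    | cast i =>
      induction j using Fin.lastCases with
      | last =>
        rw [Fin.snoc_castSucc, Fin.snoc_last, hux, if_neg]
        rintro (e | ⟨-, e, -⟩)
        · exact absurd e (Fin.castSucc_lt_last i).ne
        · simp at e
      | cast j =>
        rw [Fin.snoc_castSucc, Fin.snoc_castSucc, h.gram hu ha]
        refine if_congr ?_ rfl rfl
        simp [i.2, j.2]
  · refine no_path_seven (Fin.snoc w x) ⟨fun i => ?_, fun i j e => ?_, fun i j e => ?_⟩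
    · induction i using Fin.lastCases with
      | last => rwa [Fin.snoc_last]
      | cast i => rw [Fin.snoc_castSucc]; exact h.self i
    · induction i using Fin.lastCases with
      | last => simp at e; omega
      | cast i =>
        induction j using Fin.lastCases with
        | last =>
          rw [Fin.snoc_castSucc, Fin.snoc_last, show i = 5 from Fin.ext (by simp at e ⊢; omega)]
          exact h5
        | cast j => rw [Fin.snoc_castSucc, Fin.snoc_castSucc]; exact h.adj i j (by simpa using e)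
    · induction i using Fin.lastCases with
      | last => simp at e; omega
      | cast i =>
        induction j using Fin.lastCases with
        | last => rw [Fin.snoc_castSucc, Fin.snoc_last]; exact hxw i (by simp at e; omega)
        | cast j => rw [Fin.snoc_castSucc, Fin.snoc_castSucc]; exact h.far i j (by simpa using e)

/-- The diagram of type E7 does not fit. -/
theorem no_e_seven (w : Fin 6 → V6) (h : IsPath w) (x : V6) (hx : x ⬝ᵥ x = 1)
    (h3 : w 3 ⬝ᵥ x ≠ 0) (hxw : ∀ i : Fin 6, i ≠ 3 → w i ⬝ᵥ x = 0) : False := by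
  obtain ⟨u, hu, ha⟩ := h.signs
  obtain ⟨y, hy, hy3⟩ := exists_sign_one (sign_dot_ne (hu 3) h3)
  have huy : ∀ i, u i ⬝ᵥ y = if i = 3 then 1 else 0 := fun i => by
    split_ifs with e
    · rw [e]; exact hy3
    · exact sign_dot (hu i) hy (hxw i e)
  refine no_seven (Fin.snoc u y) (fun i j => if i = j ∨
      (i.1 < 6 ∧ j.1 < 6 ∧ (i.1 + 1 = j.1 ∨ j.1 + 1 = i.1)) ∨ (i.1 = 3 ∧ j.1 = 6) ∨
      (i.1 = 6 ∧ j.1 = 3) then 1 else 0)
    ![![0, 1, 2, 0, 1, 2, 0], ![1, 2, 1, 0, 2, 1, 0], ![2, 1, 0, 0, 0, 0, 0],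
      ![0, 0, 0, 0, 1, 2, 0], ![1, 2, 0, 1, 0, 0, 2], ![2, 1, 0, 2, 0, 1, 1],
      ![0, 0, 0, 0, 2, 1, 1]] (by decide +kernel) fun i j => ?_
  induction i using Fin.lastCases with
  | last =>
    induction j using Fin.lastCases with
    | last => rw [Fin.snoc_last, sign_self hy hx, if_pos (Or.inl rfl)]
    | cast j =>
      rw [Fin.snoc_last, Fin.snoc_castSucc, dotProduct_comm, huy]
      refine if_congr ?_ rfl rfl
      have := j.2
      simp [Fin.ext_iff]
      omega
  | cast i =>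
    induction j using Fin.lastCases with
    | last =>
      rw [Fin.snoc_castSucc, Fin.snoc_last, huy]
      refine if_congr ?_ rfl rfl
      have := i.2
      simp [Fin.ext_iff]
      omega
    | cast j =>
      rw [Fin.snoc_castSucc, Fin.snoc_castSucc, h.gram hu ha]
      refine if_congr ?_ rfl rfl
      simp [i.2, j.2]
      omega

/-- Two vectors orthogonal to a path on four points and not to each other are parallel. -/
theorem parallel_of_four_perp (w : Fin 4 → V6) (h : IsPath w) (p q : V6) (hp : p ⬝ᵥ p = 1)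
    (hq : q ⬝ᵥ q = 1) (hpw : ∀ i, w i ⬝ᵥ p = 0) (hqw : ∀ i, w i ⬝ᵥ q = 0) (hpq : p ⬝ᵥ q ≠ 0) :
    q = p ∨ q = -p := by
  obtain ⟨u, hu, ha⟩ := h.signs
  obtain ⟨y, hy, hpy⟩ := exists_sign_one hpq
  suffices p = y by
    rcases hy with rfl | rfl
    · exact Or.inl this.symm
    · right; rw [this, neg_neg]
  have hgu := h.gram hu ha
  have hup : ∀ i, u i ⬝ᵥ p = 0 := fun i => sign_dot (hu i) (Or.inl rfl) (hpw i)
  have huy : ∀ i, u i ⬝ᵥ y = 0 := fun i => sign_dot (hu i) hy (hqw i)
  have hyy : y ⬝ᵥ y = 1 := sign_self hy hq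
  let z : Fin 6 → V6 := ![u 0, u 1, u 2, u 3, p, y]
  have hz : ∀ i j, z i ⬝ᵥ z j = (![![1, 1, 0, 0, 0, 0], ![1, 1, 1, 0, 0, 0], ![0, 1, 1, 1, 0, 0],
      ![0, 0, 1, 1, 0, 0], ![0, 0, 0, 0, 1, 1], ![0, 0, 0, 0, 1, 1]] : Fin 6 → Fin 6 → ZMod 3) i j := by
    intro i j
    fin_cases i <;> fin_cases j <;>
      simp [z, hgu, hup, huy, hp, hyy, hpy, dotProduct_comm p, dotProduct_comm y p,
        dotProduct_comm y (u _)]
  by_cases hli : LinearIndependent (ZMod 3) z
  · have hspan : Submodule.span (ZMod 3) (Set.range z) = ⊤ :=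
      hli.span_eq_top_of_card_eq_finrank (by rw [Module.finrank_fin_fun, Fintype.card_fin])
    have hd : ∀ x ∈ Submodule.span (ZMod 3) (Set.range z), x ⬝ᵥ p = x ⬝ᵥ y := by
      intro x hx
      induction hx using Submodule.span_induction with
      | mem v hv =>
        obtain ⟨i, rfl⟩ := hv
        have h4 := hz i 4
        have h5 := hz i 5
        rw [show z 4 = p from rfl] at h4
        rw [show z 5 = y from rfl] at h5
        rw [h4, h5]
        exact (by decide +kernel : ∀ i : Fin 6, (![![1, 1, 0, 0, 0, 0], ![1, 1, 1, 0, 0, 0],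
          ![0, 1, 1, 1, 0, 0], ![0, 0, 1, 1, 0, 0], ![0, 0, 0, 0, 1, 1],
          ![0, 0, 0, 0, 1, 1]] : Fin 6 → Fin 6 → ZMod 3) i 4 = (![![1, 1, 0, 0, 0, 0],
          ![1, 1, 1, 0, 0, 0], ![0, 1, 1, 1, 0, 0], ![0, 0, 1, 1, 0, 0], ![0, 0, 0, 0, 1, 1],
          ![0, 0, 0, 0, 1, 1]] : Fin 6 → Fin 6 → ZMod 3) i 5) i
      | zero => simp
      | add a b _ _ h1 h2 => rw [add_dotProduct, add_dotProduct, h1, h2]
      | smul c a _ h1 => rw [smul_dotProduct, smul_dotProduct, h1]
    funext k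
    have := hd (Pi.single k 1) (hspan ▸ Submodule.mem_top)
    simpa [single_dotProduct] using this
  · obtain ⟨g, hg, j, hj⟩ := Fintype.not_linearIndependent_iff.1 hli
    have h1 : ∀ j, ∑ i, g i * (![![1, 1, 0, 0, 0, 0], ![1, 1, 1, 0, 0, 0], ![0, 1, 1, 1, 0, 0],
        ![0, 0, 1, 1, 0, 0], ![0, 0, 0, 0, 1, 1], ![0, 0, 0, 0, 1, 1]] :
          Fin 6 → Fin 6 → ZMod 3) i j = 0 := fun j => by
      simpa only [hz] using gram_kernel z g hg j
    simp only [Fin.sum_univ_six] at h1 hg
    have e0 := h1 0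
    have e1 := h1 1
    have e2 := h1 2
    have e3 := h1 3
    have e4 := h1 4
    simp at e0 e1 e2 e3 e4
    have g1 : g 1 = -g 0 := by linear_combination e0
    have g2 : g 2 = 0 := by linear_combination e1 - e0
    have g3 : g 3 = 0 := by linear_combination e3 - g2
    have g1' : g 1 = 0 := by linear_combination e2 - g2 - g3
    have g0 : g 0 = 0 := by linear_combination e0 - g1'
    have g5 : g 5 = -g 4 := by linear_combination e4
    have h4 : g 4 ≠ 0 := fun e => hj (by
      fin_cases j <;> simp [g0, g1', g2, g3, g5, e])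
    simp [z, g0, g1', g2, g3, g5] at hg
    rw [← sub_eq_add_neg, ← smul_sub, smul_eq_zero] at hg
    exact sub_eq_zero.1 (hg.resolve_left h4)

end CfsgLib.Trans3.Y332
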