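import Cfsg.Agent.Lib.Trans3.Y332.Config

/-!
A group of type M(22) contains nine members forming the diagram Y332.
-/

set_option autoImplicit false
set_option linter.unusedSectionVars false
set_option maxRecDepth 100000

namespace CfsgLib.Trans3.Y332

open Matrix
open CfsgLib.Trans3.Fi

/-- The vectors of the path g, f, e, d, h, i. -/
def pathVec : Fin 6 → V6 :=
  ![![1, 0, 0, 0, 0, 0], ![1, 0, 0, 1, 1, 1], ![0, 0, 0, 0, 0, 1],
    ![0, 0, 1, 1, 1, 1], ![0, 1, 1, 1, 2, 0], ![0, 1, 0, 0, 0, 0]]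

theorem pathVec_self : ∀ i, pathVec i ⬝ᵥ pathVec i = 1 := by decide +kernel

theorem pathVec_dot : ∀ i j : Fin 6, i.1 < j.1 →
    (pathVec i ⬝ᵥ pathVec j = 0 ↔ i.1 + 1 ≠ j.1) := by decide +kernel

theorem pathVec_ne : ∀ i j : Fin 6, i ≠ j → pathVec i ≠ pathVec j ∧ pathVec i ≠ -pathVec j := by
  decide +kernel

variable {G : Type*} [Group G] [Finite G] {D : Set G}
variable (hD : Cfsg.IsThreeTranspositionGroup D) (hP : Cfsg.IsPrimitiveUnderConj D)
variable (h : Cfsg.IsOfTypeM22 G D)
include hD hP h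

theorem exists_gpath {a b : G} (ha : a ∈ D) (hb : b ∈ D) (hab : ¬ Commute a b) :
    ∃ m, GPath D a b m := by
  obtain ⟨V, hV⟩ := m22_pair_model hD hP h ha hb hab
  have get : ∀ i, ∃ e ∈ CN D a b, V e = pathVec i ∨ V e = -pathVec i :=
    fun i => hV.surj _ (pathVec_self i)
  choose m hm hmV using get
  have hne : ∀ i j, i ≠ j → m i ≠ m j := fun i j hij e => by
    obtain ⟨h1, h2⟩ := pathVec_ne i j hij
    have hi := hmV i
    rw [e] at hi
    rcases hi with e1 | e1 <;> rcases hmV j with e2 | e2 <;> rw [e2] at e1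
    · exact h1 e1.symm
    · exact h2 e1.symm
    · exact h2 (by rw [e1, neg_neg])
    · exact h1 (neg_injective e1).symm
  refine ⟨m, hm, hne, fun i j l => ?_⟩
  rw [hV.comm _ (hm i) _ (hm j) (hne i j fun e => by rw [e] at l; omega), ← pathVec_dot i j l]
  rcases hmV i with e1 | e1 <;> rcases hmV j with e2 | e2 <;> rw [e1, e2] <;> simp

theorem exists_cfg : ∃ s : ℕ → G, Cfg D s := by
  obtain ⟨a, ha, b, hb, hab⟩ := (nice_m22 hD h).pair
  obtain ⟨m, hm⟩ := exists_gpath hD hP h ha hb hab
  obtain ⟨V, hV⟩ := m22_pair_model hD hP h ha hb hab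
  have hn : ∀ i, m i ∈ nbrs D a := fun i =>
    ⟨(hm.mem i).1, fun e => hab (e ▸ (hm.mem i).2.2).symm, (hm.mem i).2.1⟩
  have hPre := pre_of_group hD
  have hg := (nice_m22 hD h).group_Db ha
  have hc : ∀ i j : Fin 6, i.1 < j.1 → i.1 + 1 ≠ j.1 → Commute (m i) (m j) :=
    fun i j l e => (hm.comm i j l).2 e
  have hnc : ∀ i j : Fin 6, i.1 + 1 = j.1 → ¬ Commute (m i) (m j) :=
    fun i j e c => (hm.comm i j (by omega)).1 c e
  -- g, f, e, d, h, i
  obtain ⟨F, _, _, f, hF, hf, hk⟩ := exists_model (m22_isU6 hD h ha) hg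
  obtain ⟨u, hu, nud, cuf, hu6⟩ := line_point hF f hf hk hg (bar_mem (hn 2)) (bar_mem (hn 0))
    (bar_mem (hn 1)) (bar_mem (hn 3))
    ((commute_bar hPre _ _).2 (hc 0 2 (by decide) (by decide)).symm)
    (fun e => hm.ne 2 0 (by decide) ((nice_m22 hD h).bar_inj ha _ _ e))
    (fun c => hnc 1 2 (by decide) ((commute_bar hPre _ _).1 c))
    (fun c => hnc 0 1 (by decide) ((commute_bar hPre _ _).1 c).symm)
    (fun c => hnc 2 3 (by decide) ((commute_bar hPre _ _).1 c).symm)
    ((commute_bar hPre _ _).2 (hc 0 3 (by decide) (by decide)).symm)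
  obtain ⟨c, nc, rfl⟩ := exists_bar hu
  have c6 : ∀ i, Commute (m i) (m 2) → Commute (m i) (m 0) → Commute (m i) c := fun i e1 e2 =>
    (commute_bar hPre _ _).1 (hu6 _ (bar_mem (hn i)) ((commute_bar hPre _ _).2 e1)
      ((commute_bar hPre _ _).2 e2))
  have hc3 : ¬ Commute c (m 3) := fun e => nud ((commute_bar hPre _ _).2 e)
  have hci : ∀ i : Fin 6, i ≠ 3 → Commute (m i) c := by
    intro i hi
    fin_cases i
    · exact c6 0 (hc 0 2 (by decide) (by decide)) (Commute.refl _)
    · exact ((commute_bar hPre _ _).1 cuf).symm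
    · exact c6 2 (Commute.refl _) (hc 0 2 (by decide) (by decide)).symm
    · exact absurd rfl hi
    · exact c6 4 (hc 2 4 (by decide) (by decide)).symm (hc 0 4 (by decide) (by decide)).symm
    · exact c6 5 (hc 2 5 (by decide) (by decide)).symm (hc 0 5 (by decide) (by decide)).symm
  have hcm : ∀ i, c ≠ m i := by
    intro i e
    rw [e] at hc3 hci
    fin_cases i
    · exact hnc 0 1 (by decide) (hci 1 (by decide)).symm
    · exact hnc 1 2 (by decide) (hci 2 (by decide)).symm
    · exact hnc 1 2 (by decide) (hci 1 (by decide))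
    · exact hc3 (Commute.refl _)
    · exact hnc 4 5 (by decide) (hci 5 (by decide)).symm
    · exact hnc 4 5 (by decide) (hci 4 (by decide))
  have hcb : ¬ Commute b c := by
    intro e
    have hcN : c ∈ CN D a b := ⟨nc.1, nc.2.2, e⟩
    refine no_e_seven _ (hm.isPath hV) (V c) (hV.self c hcN) ?_ fun i hi => ?_
    · exact fun hz => hc3 ((hV.comm _ (hm.mem 3) c hcN (Ne.symm (hcm 3))).2 hz).symm
    · exact (hV.comm _ (hm.mem i) c hcN (Ne.symm (hcm i))).1 (hci i hi)
  obtain ⟨s, es⟩ : ∃ s : ℕ → G, s = fun n =>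
      [a, b, c, m 3, m 2, m 1, m 0, m 4, m 5].getD n 1 := ⟨_, rfl⟩
  have hmem : ∀ x < 9, s x ∈ D := by
    intro x hx
    interval_cases x <;> simp only [es] <;> simp [ha, hb, nc.1, (hm.mem _).1]
  have half : ∀ y < 9, ∀ x < y, Commute (s x) (s y) ↔ lab x y ≠ 3 := by
    intro y hy x hxy
    have A := fun i => (hm.mem i).2.1
    have B := fun i => (hm.mem i).2.2
    have K : ∀ {p q : G} {n : ℕ}, Commute p q → n ≠ 3 → (Commute p q ↔ n ≠ 3) :=
      fun h1 h2 => ⟨fun _ => h2, fun _ => h1⟩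
    have N : ∀ {p q : G} {n : ℕ}, ¬ Commute p q → n = 3 → (Commute p q ↔ n ≠ 3) :=
      fun h1 h2 => ⟨fun e => absurd e h1, fun e => absurd h2 e⟩
    simp only [es]
    interval_cases y <;> interval_cases x <;>
      first
        | exact K (A _) (by decide)
        | exact K (B _) (by decide)
        | exact K nc.2.2 (by decide)
        | exact N hab (by decide)
        | exact N hcb (by decide)
        | exact K (hci _ (by decide)).symm (by decide)
        | exact N hc3 (by decide)
        | exact K (hc _ _ (by decide) (by decide)) (by decide)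
        | exact K (hc _ _ (by decide) (by decide)).symm (by decide)
        | exact N (hnc _ _ (by decide)) (by decide)
        | exact N (fun e => hnc _ _ (by decide) e.symm) (by decide)
  refine ⟨s, hmem, fun x hx y hy hxy => ?_, fun x hx => ?_⟩
  · rcases Nat.lt_or_gt_of_ne hxy with l | l
    · exact half y hy x l
    · rw [← (by decide +kernel : ∀ x < 9, ∀ y < 9, lab y x = lab x y) x hx y hy,
        ← half x hx y l]
      exact ⟨Commute.symm, Commute.symm⟩
  · rw [es]
    exact List.getD_eq_default _ _ (by simpa using hx)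

end CfsgLib.Trans3.Y332
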